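import Groth.Agent.Variety.K360.Fock
import Mathlib.Algebra.BigOperators.Pi
import Mathlib.Algebra.DirectSum.Internal

/-!
# The Eagon–Northcott type complex of a matrix, in total form

For a Fock representation `F` of rank `n` and `m` covectors `φ i` of `A^n` the complex with terms
`(β × Mon m s → A)` (`β` the index set of `F`, `Mon m s` the monomials of degree `s` in `m` variables):

* `dmat F φ s`: the differential; `emat F φ`: the augmentation to `β → A`.
* `dmat_mul_dmat`, `emat_mul_dmat`: it is a complex.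
* `dmat_exact`, `emat_exact`: it is exact if the covectors `φ i` have a dual system of vectors.
-/

set_option autoImplicit false

open Matrix

namespace K360.ENAlg

open K360.Fock

variable {n m : ℕ} {β : Type} [Fintype β] [DecidableEq β] (F : Rep n β) {A : Type*} [CommRing A]

/-- raise an exponent -/
def up (α : Fin m → ℕ) (i : Fin m) : Fin m → ℕ := Function.update α i (α i + 1)

/-- lower an exponent -/
def dn (α : Fin m → ℕ) (i : Fin m) : Fin m → ℕ := Function.update α i (α i - 1)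

theorem up_self (α : Fin m → ℕ) (i : Fin m) : up α i i = α i + 1 := Function.update_self ..

theorem up_of_ne (α : Fin m → ℕ) {i k : Fin m} (h : i ≠ k) : up α k i = α i := Function.update_of_ne h ..

theorem dn_up (α : Fin m → ℕ) (i : Fin m) : dn (up α i) i = α := by
  rw [dn, up, Function.update_self, Function.update_idem, Nat.add_sub_cancel, Function.update_eq_self]

theorem up_dn (α : Fin m → ℕ) (i : Fin m) (h : α i ≠ 0) : up (dn α i) i = α := by
  rw [dn, up, Function.update_self, Function.update_idem, Nat.sub_add_cancel (Nat.pos_of_ne_zero h),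
    Function.update_eq_self]

theorem dn_up_comm (α : Fin m → ℕ) {i k : Fin m} (h : i ≠ k) : dn (up α k) i = up (dn α i) k := by
  rw [dn, up, up, dn, Function.update_of_ne h, Function.update_of_ne h.symm, Function.update_comm h]

theorem up_up_comm (α : Fin m → ℕ) (i k : Fin m) : up (up α k) i = up (up α i) k := by
  by_cases h : i = k
  · rw [h]
  · rw [up, up, up, up, Function.update_of_ne h, Function.update_of_ne (Ne.symm h), Function.update_comm h]

theorem sum_up (α : Fin m → ℕ) (i : Fin m) : ∑ j, up α i j = ∑ j, α j + 1 := by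
  rw [up, Finset.sum_update_of_mem (Finset.mem_univ i), ← Finset.add_sum_erase _ _ (Finset.mem_univ i),
    Finset.sdiff_singleton_eq_erase]
  ring

theorem sum_dn (α : Fin m → ℕ) (i : Fin m) (h : α i ≠ 0) : ∑ j, dn α i j + 1 = ∑ j, α j := by
  rw [← sum_up, up_dn α i h]

/-- homogeneous functions -/
def IsHom (s : ℕ) (z : (Fin m → ℕ) → β → A) : Prop := ∀ α, ∑ i, α i ≠ s → z α = 0

/-- the differential -/
def D (φ : Fin m → Fin n → A) (z : (Fin m → ℕ) → β → A) : (Fin m → ℕ) → β → A :=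
  fun α => ∑ i, cA F (φ i) *ᵥ z (up α i)

/-- the homotopies -/
def G (u : Fin m → Fin n → A) (i : Fin m) (z : (Fin m → ℕ) → β → A) : (Fin m → ℕ) → β → A :=
  fun α => if α i = 0 then 0 else hA F (u i) *ᵥ z (dn α i)

/-- the projectors -/
def P (φ u : Fin m → Fin n → A) (i : Fin m) (z : (Fin m → ℕ) → β → A) : (Fin m → ℕ) → β → A :=
  fun α => if α i = 0 then hA F (u i) *ᵥ (cA F (φ i) *ᵥ z α) else 0

section Lin

variable (φ u : Fin m → Fin n → A)

theorem D_add (z w : (Fin m → ℕ) → β → A) : D F φ (z + w) = D F φ z + D F φ w := by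
  funext α
  simp only [D, Pi.add_apply, Matrix.mulVec_add, Finset.sum_add_distrib]

theorem D_zero : D F φ (0 : (Fin m → ℕ) → β → A) = 0 := by
  funext α
  simp only [D, Pi.zero_apply, Matrix.mulVec_zero, Finset.sum_const_zero]

theorem G_zero (i : Fin m) : G F u i (0 : (Fin m → ℕ) → β → A) = 0 := by
  funext α
  simp only [G, Pi.zero_apply, Matrix.mulVec_zero, ite_self]

theorem sum_sum_eq_zero {M ι : Type*} [AddCommGroup M] [Fintype ι] (f : ι → ι → M)
    (h : ∀ i j, f i j + f j i = 0) (h2 : ∀ i, f i i = 0) : ∑ i, ∑ j, f i j = 0 := by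
  classical
  rw [← Finset.sum_product']
  refine Finset.sum_involution (fun x _ => (x.2, x.1)) (fun x _ => h _ _) (fun x _ hx hx' => ?_)
    (fun x _ => Finset.mem_univ _) (fun x _ => rfl)
  obtain ⟨i, j⟩ := x
  rw [Prod.mk.injEq] at hx'
  obtain rfl : j = i := hx'.1
  exact hx (h2 j)

theorem D_D (z : (Fin m → ℕ) → β → A) : D F φ (D F φ z) = 0 := by
  funext α
  change ∑ i, cA F (φ i) *ᵥ (∑ j, cA F (φ j) *ᵥ z (up (up α i) j)) = 0
  have h1 : ∀ i, cA F (φ i) *ᵥ (∑ j, cA F (φ j) *ᵥ z (up (up α i) j)) =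
      ∑ j, (cA F (φ i) * cA F (φ j)) *ᵥ z (up (up α i) j) := by
    intro i
    rw [Matrix.mulVec_sum]
    exact Finset.sum_congr rfl fun j _ => Matrix.mulVec_mulVec ..
  rw [Finset.sum_congr rfl fun i _ => h1 i]
  refine sum_sum_eq_zero _ (fun i j => ?_) (fun i => ?_)
  · rw [up_up_comm α i j, ← Matrix.add_mulVec, cA_cA, Matrix.zero_mulVec]
  · rw [cA_sq, Matrix.zero_mulVec]

variable (hu : ∀ k i, φ k ⬝ᵥ u i = if k = i then 1 else 0)

include hu in
theorem homotopy (i : Fin m) (z : (Fin m → ℕ) → β → A) :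
    z = D F φ (G F u i z) + G F u i (D F φ z) + P F φ u i z := by
  funext α
  have hch : ∀ k (y : β → A), cA F (φ k) *ᵥ (hA F (u i) *ᵥ y) + hA F (u i) *ᵥ (cA F (φ k) *ᵥ y) =
      if k = i then y else 0 := by
    intro k y
    rw [Matrix.mulVec_mulVec, Matrix.mulVec_mulVec, ← Matrix.add_mulVec, cA_hA, hu, Matrix.smul_mulVec,
      Matrix.one_mulVec]
    split_ifs
    · rw [one_smul]
    · rw [zero_smul]
  change z α = (∑ k, cA F (φ k) *ᵥ (if up α k i = 0 then 0 else hA F (u i) *ᵥ z (dn (up α k) i))) +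
    (if α i = 0 then 0 else hA F (u i) *ᵥ (∑ k, cA F (φ k) *ᵥ z (up (dn α i) k))) +
    (if α i = 0 then hA F (u i) *ᵥ (cA F (φ i) *ᵥ z α) else 0)
  by_cases h0 : α i = 0
  · rw [if_pos h0, if_pos h0, add_zero, Finset.sum_eq_single i]
    · rw [up_self, if_neg (Nat.succ_ne_zero _), dn_up, hch, if_pos rfl]
    · intro k _ hk
      rw [up_of_ne α (Ne.symm hk), if_pos h0, Matrix.mulVec_zero]
    · intro h
      exact absurd (Finset.mem_univ i) h
  · rw [if_neg h0, if_neg h0, add_zero, Matrix.mulVec_sum, ← Finset.sum_add_distrib, Finset.sum_eq_single i]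
    · rw [up_self, if_neg (Nat.succ_ne_zero _), dn_up, up_dn α i h0, hch, if_pos rfl]
    · intro k _ hk
      rw [up_of_ne α (Ne.symm hk), if_neg h0, dn_up_comm α (Ne.symm hk), hch, if_neg hk]
    · intro h
      exact absurd (Finset.mem_univ i) h

theorem isHom_D {s : ℕ} {z : (Fin m → ℕ) → β → A} (hz : IsHom (s + 1) z) : IsHom s (D F φ z) := by
  intro α hα
  change ∑ i, cA F (φ i) *ᵥ z (up α i) = 0
  refine Finset.sum_eq_zero fun i _ => ?_
  rw [hz (up α i) (by rw [sum_up]; omega), Matrix.mulVec_zero]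

theorem isHom_G {s : ℕ} {z : (Fin m → ℕ) → β → A} (hz : IsHom s z) (i : Fin m) : IsHom (s + 1) (G F u i z) := by
  intro α hα
  change (if α i = 0 then 0 else hA F (u i) *ᵥ z (dn α i)) = 0
  split_ifs with h
  · rfl
  · have h1 := sum_dn α i h
    rw [hz (dn α i) (by omega), Matrix.mulVec_zero]

theorem isHom_P {s : ℕ} {z : (Fin m → ℕ) → β → A} (hz : IsHom s z) (i : Fin m) : IsHom s (P F φ u i z) := by
  intro α hα
  change (if α i = 0 then hA F (u i) *ᵥ (cA F (φ i) *ᵥ z α) else 0) = 0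
  rw [hz α hα, Matrix.mulVec_zero, Matrix.mulVec_zero, ite_self]

omit [Fintype β] [DecidableEq β] in
theorem isHom_add {s : ℕ} {z w : (Fin m → ℕ) → β → A} (hz : IsHom s z) (hw : IsHom s w) : IsHom s (z + w) := by
  intro α hα
  rw [Pi.add_apply, hz α hα, hw α hα, add_zero]

omit [Fintype β] [DecidableEq β] in
theorem isHom_zero {s : ℕ} : IsHom s (0 : (Fin m → ℕ) → β → A) := fun _ _ => rfl

include hu in
theorem exists_foldl (l : List (Fin m)) {s : ℕ} (z : (Fin m → ℕ) → β → A) (hz : D F φ z = 0) (hs : IsHom s z) :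
    ∃ w, IsHom (s + 1) w ∧ z = D F φ w + l.foldl (fun y i => P F φ u i y) z := by
  induction l generalizing z with
  | nil => exact ⟨0, isHom_zero, by rw [D_zero, zero_add]; rfl⟩
  | cons i l ih =>
    have h1 := homotopy F φ u hu i z
    rw [hz, G_zero, add_zero] at h1
    have h2 : D F φ (P F φ u i z) = 0 := by
      have h3 := congrArg (D F φ) h1
      rw [hz, D_add, D_D, zero_add] at h3
      exact h3.symm
    obtain ⟨w, hw, hw'⟩ := ih (P F φ u i z) h2 (isHom_P F φ u hs i)
    refine ⟨G F u i z + w, isHom_add (isHom_G F u hs i) hw, ?_⟩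
    rw [D_add, add_assoc, List.foldl_cons, ← hw']
    exact h1

theorem foldl_P_apply (l : List (Fin m)) (z : (Fin m → ℕ) → β → A) (α : Fin m → ℕ) :
    l.foldl (fun y i => P F φ u i y) z α =
      if ∀ i ∈ l, α i = 0 then l.foldl (fun y i => hA F (u i) *ᵥ (cA F (φ i) *ᵥ y)) (z α) else 0 := by
  induction l generalizing z with
  | nil => simp
  | cons i l ih =>
    rw [List.foldl_cons, ih, List.foldl_cons]
    by_cases h0 : α i = 0
    · have h1 : P F φ u i z α = hA F (u i) *ᵥ (cA F (φ i) *ᵥ z α) := if_pos h0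
      rw [h1]
      have h2 : (∀ j ∈ i :: l, α j = 0) ↔ ∀ j ∈ l, α j = 0 := by
        rw [List.forall_mem_cons]
        exact ⟨fun h => h.2, fun h => ⟨h0, h⟩⟩
      simp only [h2]
    · have h1 : P F φ u i z α = 0 := if_neg h0
      have h3 : ∀ l : List (Fin m), l.foldl (fun y i => hA F (u i) *ᵥ (cA F (φ i) *ᵥ y)) (0 : β → A) = 0 := by
        intro l
        induction l with
        | nil => rfl
        | cons j l ih => rw [List.foldl_cons, Matrix.mulVec_zero, Matrix.mulVec_zero, ih]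
      rw [h1, h3, ite_self, if_neg]
      intro h
      exact h0 (h i (List.mem_cons_self ..))

theorem foldl_c_neg (l : List (Fin m)) (y : β → A) :
    l.foldl (fun y i => cA F (φ i) *ᵥ y) (-y) = -l.foldl (fun y i => cA F (φ i) *ᵥ y) y := by
  induction l generalizing y with
  | nil => rfl
  | cons j l ih => rw [List.foldl_cons, List.foldl_cons, Matrix.mulVec_neg, ih]

include hu in
theorem foldl_c_h (l : List (Fin m)) (i : Fin m) (hi : i ∉ l) (y : β → A)
    (h : l.foldl (fun y i => cA F (φ i) *ᵥ y) y = 0) :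
    l.foldl (fun y i => cA F (φ i) *ᵥ y) (hA F (u i) *ᵥ y) = 0 := by
  have key : ∀ (l : List (Fin m)) (_ : i ∉ l) (y : β → A),
      ∃ e : ℤ, l.foldl (fun y i => cA F (φ i) *ᵥ y) (hA F (u i) *ᵥ y) =
        e • (hA F (u i) *ᵥ l.foldl (fun y i => cA F (φ i) *ᵥ y) y) := by
    intro l
    induction l with
    | nil => exact fun _ y => ⟨1, by rw [one_smul]; rfl⟩
    | cons j l ih =>
      intro hi y
      rw [List.mem_cons, not_or] at hi
      obtain ⟨e, he⟩ := ih hi.2 (cA F (φ j) *ᵥ y)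
      refine ⟨-e, ?_⟩
      rw [List.foldl_cons, List.foldl_cons]
      have h1 : cA F (φ j) *ᵥ (hA F (u i) *ᵥ y) = -(hA F (u i) *ᵥ (cA F (φ j) *ᵥ y)) := by
        rw [eq_neg_iff_add_eq_zero, Matrix.mulVec_mulVec, Matrix.mulVec_mulVec, ← Matrix.add_mulVec, cA_hA, hu,
          if_neg (Ne.symm hi.1), zero_smul, Matrix.zero_mulVec]
      rw [h1, foldl_c_neg, he, neg_smul]
  obtain ⟨e, he⟩ := key l hi y
  rw [he, h, Matrix.mulVec_zero, smul_zero]

include hu in
theorem foldl_hc_eq_zero (l : List (Fin m)) (hl : l.Nodup) (y : β → A)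
    (h : l.foldl (fun y i => cA F (φ i) *ᵥ y) y = 0) :
    l.foldl (fun y i => hA F (u i) *ᵥ (cA F (φ i) *ᵥ y)) y = 0 := by
  induction l generalizing y with
  | nil => exact h
  | cons i l ih =>
    rw [List.nodup_cons] at hl
    rw [List.foldl_cons] at h ⊢
    exact ih hl.2 _ (foldl_c_h F φ u hu l i hl.1 _ h)

end Lin

theorem eps_mulVec {m : ℕ} (φ : Fin m → Fin n → A) (y : β → A) :
    eps F φ *ᵥ y = (List.finRange m).foldl (fun y i => cA F (φ i) *ᵥ y) y := by
  induction m generalizing y with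
  | zero => rw [eps, Matrix.one_mulVec]; rfl
  | succ m ih =>
    rw [eps, ← Matrix.mulVec_mulVec, ih, List.finRange_succ, List.foldl_cons, List.foldl_map]

/-- **Exactness** in total form. -/
theorem exact_total (φ u : Fin m → Fin n → A) (hu : ∀ k i, φ k ⬝ᵥ u i = if k = i then 1 else 0) {s : ℕ}
    (z : (Fin m → ℕ) → β → A) (hs : IsHom s z) (hz : D F φ z = 0) (h0 : s = 0 → eps F φ *ᵥ z 0 = 0) :
    ∃ w, IsHom (s + 1) w ∧ D F φ w = z := by
  obtain ⟨w, hw, hw'⟩ := exists_foldl F φ u hu (List.finRange m) z hz hs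
  refine ⟨w, hw, ?_⟩
  have h1 : (List.finRange m).foldl (fun y i => P F φ u i y) z = 0 := by
    funext α
    rw [foldl_P_apply]
    split_ifs with h
    · obtain rfl : α = 0 := funext fun i => h i (List.mem_finRange i)
      refine foldl_hc_eq_zero F φ u hu _ (List.nodup_finRange m) _ ?_
      rw [← eps_mulVec]
      by_cases h2 : s = 0
      · exact h0 h2
      · rw [hs 0 (by simpa using Ne.symm h2), Matrix.mulVec_zero]
    · rfl
  rw [h1, add_zero] at hw'
  exact hw'.symm

theorem eps_mul_cA {m : ℕ} (φ : Fin m → Fin n → A) (i : Fin m) : eps F φ * cA F (φ i) = 0 := by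
  induction m with
  | zero => exact i.elim0
  | succ m ih =>
    rw [eps, mul_assoc]
    induction i using Fin.cases with
    | zero => rw [cA_sq, mul_zero]
    | succ i =>
      rw [eq_neg_of_add_eq_zero_left (cA_cA F (φ 0) (φ i.succ)), mul_neg, ← mul_assoc, ih (fun i => φ i.succ) i,
        zero_mul, neg_zero]

/-! ### Matrix form -/

/-- Monomials of degree `s` in `m` variables. -/
def Mon (m s : ℕ) : Type := {α : Fin m → ℕ // ∑ i, α i = s}

instance (m s : ℕ) : DecidableEq (Mon m s) := inferInstanceAs (DecidableEq {α : Fin m → ℕ // ∑ i, α i = s})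

instance (m s : ℕ) : Finite (Mon m s) :=
  Finite.of_injective (fun (α : Mon m s) (i : Fin m) =>
    (⟨α.1 i, Nat.lt_succ_of_le ((Finset.single_le_sum (f := α.1) (fun _ _ => Nat.zero_le _)
      (Finset.mem_univ i)).trans (le_of_eq α.2))⟩ : Fin (s + 1)))
    (fun α α' h => Subtype.ext (funext fun i => by simpa using congrArg Fin.val (congrFun h i)))

noncomputable instance (m s : ℕ) : Fintype (Mon m s) := Fintype.ofFinite _

/-- extension by zero -/
def ext0 {s : ℕ} (z : β × Mon m s → A) : (Fin m → ℕ) → β → A :=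
  fun α b => if h : ∑ i, α i = s then z (b, ⟨α, h⟩) else 0

omit [Fintype β] [DecidableEq β] in
theorem ext0_apply {s : ℕ} (z : β × Mon m s → A) (α : Fin m → ℕ) (h : ∑ i, α i = s) (b : β) :
    ext0 z α b = z (b, ⟨α, h⟩) := dif_pos h

/-- restriction -/
def res0 {s : ℕ} (z : (Fin m → ℕ) → β → A) : β × Mon m s → A := fun x => z x.2.1 x.1

omit [Fintype β] [DecidableEq β] in
theorem isHom_ext0 {s : ℕ} (z : β × Mon m s → A) : IsHom s (ext0 z) := by
  intro α h
  funext b
  exact dif_neg h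

omit [Fintype β] [DecidableEq β] in
theorem res0_ext0 {s : ℕ} (z : β × Mon m s → A) : res0 (ext0 z) = z := by
  funext x
  exact dif_pos x.2.2

omit [Fintype β] [DecidableEq β] in
theorem ext0_res0 {s : ℕ} (z : (Fin m → ℕ) → β → A) (hz : IsHom s z) : ext0 (res0 (s := s) z) = z := by
  funext α b
  by_cases h : ∑ i, α i = s
  · exact dif_pos h
  · rw [hz α h]
    exact dif_neg h

/-- The differential. -/
noncomputable def dmat (φ : Fin m → Fin n → A) (s : ℕ) : Matrix (β × Mon m s) (β × Mon m (s + 1)) A :=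
  Matrix.of fun x y => ∑ i, if y.2.1 = up x.2.1 i then cA F (φ i) x.1 y.1 else 0

/-- The augmentation. -/
def emat (φ : Fin m → Fin n → A) : Matrix β (β × Mon m 0) A := Matrix.of fun b y => eps F φ b y.1

theorem dmat_mulVec (φ : Fin m → Fin n → A) {s : ℕ} (z : β × Mon m (s + 1) → A) :
    dmat F φ s *ᵥ z = res0 (D F φ (ext0 z)) := by
  funext x
  change ∑ y, (∑ i, if y.2.1 = up x.2.1 i then cA F (φ i) x.1 y.1 else 0) * z y =
    (∑ i, cA F (φ i) *ᵥ (ext0 z) (up x.2.1 i)) x.1
  rw [Finset.sum_apply]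
  simp only [Finset.sum_mul]
  rw [Finset.sum_comm]
  refine Finset.sum_congr rfl fun i _ => ?_
  have hs : ∑ j, up x.2.1 i j = s + 1 := by rw [sum_up, x.2.2]
  rw [Fintype.sum_prod_type, Matrix.mulVec, dotProduct]
  refine Finset.sum_congr rfl fun b _ => ?_
  rw [Finset.sum_eq_single ⟨up x.2.1 i, hs⟩]
  · rw [if_pos rfl]
    rw [ext0_apply z _ hs]
  · intro α _ hα
    rw [if_neg, zero_mul]
    intro h
    exact hα (Subtype.ext h)
  · intro h
    exact absurd (Finset.mem_univ _) h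

/-- the monomial `1` -/
def mon0 (m : ℕ) : Mon m 0 := ⟨0, by simp⟩

theorem eq_mon0 (α : Mon m 0) : α = mon0 m := by
  refine Subtype.ext (funext fun i => ?_)
  have h := α.2
  rw [Finset.sum_eq_zero_iff] at h
  exact h i (Finset.mem_univ i)

theorem emat_mulVec (φ : Fin m → Fin n → A) (z : β × Mon m 0 → A) :
    emat F φ *ᵥ z = eps F φ *ᵥ (ext0 z 0) := by
  funext b
  change ∑ y : β × Mon m 0, eps F φ b y.1 * z y = ∑ b', eps F φ b b' * ext0 z 0 b'
  rw [Fintype.sum_prod_type]
  refine Finset.sum_congr rfl fun b' _ => ?_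
  rw [Finset.sum_eq_single (mon0 m)]
  · rw [ext0_apply z 0 (mon0 m).2]
    rfl
  · intro α _ hα
    exact absurd (eq_mon0 α) hα
  · intro h
    exact absurd (Finset.mem_univ _) h

theorem dmat_mul_dmat (φ : Fin m → Fin n → A) (s : ℕ) : dmat F φ s * dmat F φ (s + 1) = 0 := by
  classical
  refine Matrix.ext_of_mulVec_single fun y => ?_
  rw [← Matrix.mulVec_mulVec, dmat_mulVec, dmat_mulVec, ext0_res0 _ (isHom_D F φ (isHom_ext0 _)), D_D,
    Matrix.zero_mulVec]
  rfl

theorem emat_mul_dmat (φ : Fin m → Fin n → A) : emat F φ * dmat F φ 0 = 0 := by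
  classical
  refine Matrix.ext_of_mulVec_single fun y => ?_
  rw [← Matrix.mulVec_mulVec, dmat_mulVec, emat_mulVec, ext0_res0 _ (isHom_D F φ (isHom_ext0 _)),
    Matrix.zero_mulVec]
  change eps F φ *ᵥ (∑ i, cA F (φ i) *ᵥ (ext0 (Pi.single y 1)) (up 0 i)) = 0
  rw [Matrix.mulVec_sum]
  refine Finset.sum_eq_zero fun i _ => ?_
  rw [Matrix.mulVec_mulVec, eps_mul_cA, Matrix.zero_mulVec]

theorem dmat_exact (φ u : Fin m → Fin n → A) (hu : ∀ k i, φ k ⬝ᵥ u i = if k = i then 1 else 0) {s : ℕ}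
    (z : β × Mon m (s + 1) → A) (hz : dmat F φ s *ᵥ z = 0) : ∃ w, dmat F φ (s + 1) *ᵥ w = z := by
  rw [dmat_mulVec] at hz
  have h1 : D F φ (ext0 z) = 0 := by
    rw [← ext0_res0 _ (isHom_D F φ (isHom_ext0 z)), hz]
    funext α b
    by_cases h : ∑ i, α i = s
    · exact dif_pos h
    · exact dif_neg h
  obtain ⟨w, hw, hw'⟩ := exact_total F φ u hu (ext0 z) (isHom_ext0 z) h1 (fun h => absurd h (Nat.succ_ne_zero _))
  refine ⟨res0 w, ?_⟩
  rw [dmat_mulVec, ext0_res0 w hw, hw', res0_ext0]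

theorem emat_exact (φ u : Fin m → Fin n → A) (hu : ∀ k i, φ k ⬝ᵥ u i = if k = i then 1 else 0)
    (z : β × Mon m 0 → A) (hz : emat F φ *ᵥ z = 0) : ∃ w, dmat F φ 0 *ᵥ w = z := by
  rw [emat_mulVec] at hz
  have h1 : D F φ (ext0 z) = 0 := by
    funext α
    change ∑ i, cA F (φ i) *ᵥ (ext0 z) (up α i) = 0
    refine Finset.sum_eq_zero fun i _ => ?_
    rw [isHom_ext0 z (up α i) (by rw [sum_up]; omega), Matrix.mulVec_zero]
  obtain ⟨w, hw, hw'⟩ := exact_total F φ u hu (ext0 z) (isHom_ext0 z) h1 (fun _ => hz)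
  refine ⟨res0 w, ?_⟩
  rw [dmat_mulVec, ext0_res0 w hw, hw', res0_ext0]

/-! ### Naturality and degrees -/

section Map

variable {A' : Type*} [CommRing A'] (ρ : A →+* A')

theorem cA_map (φ : Fin n → A) : (cA F φ).map ρ = cA F (fun j => ρ (φ j)) := by
  ext x y
  rw [Matrix.map_apply, cA, cA, Matrix.sum_apply, Matrix.sum_apply, map_sum]
  refine Finset.sum_congr rfl fun j _ => ?_
  rw [Matrix.smul_apply, Matrix.smul_apply, Matrix.map_apply, Matrix.map_apply, smul_eq_mul, smul_eq_mul, map_mul]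
  simp

theorem eps_map {m : ℕ} (φ : Fin m → Fin n → A) : (eps F φ).map ρ = eps F (fun i j => ρ (φ i j)) := by
  induction m with
  | zero => exact Matrix.map_one _ (map_zero _) (map_one _)
  | succ m ih => rw [eps, eps, Matrix.map_mul, ih, cA_map]

theorem emat_map (φ : Fin m → Fin n → A) : (emat F φ).map ρ = emat F (fun i j => ρ (φ i j)) := by
  ext x y
  have h := eps_map F ρ φ
  exact congrFun (congrFun h x) y.1

theorem dmat_map (φ : Fin m → Fin n → A) (s : ℕ) : (dmat F φ s).map ρ = dmat F (fun i j => ρ (φ i j)) s := by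
  ext x y
  change ρ (∑ i, if y.2.1 = up x.2.1 i then cA F (φ i) x.1 y.1 else 0) =
    ∑ i, if y.2.1 = up x.2.1 i then cA F (fun j => ρ (φ i j)) x.1 y.1 else 0
  rw [map_sum]
  refine Finset.sum_congr rfl fun i _ => ?_
  split_ifs
  · exact congrFun (congrFun (cA_map F ρ (φ i)) x.1) y.1
  · exact map_zero _

end Map

section Deg

variable {σ : Type*} [SetLike σ A] [AddSubgroupClass σ A] (𝒜 : ℕ → σ) [SetLike.GradedMonoid 𝒜]

omit [SetLike.GradedMonoid 𝒜] in
theorem cA_mem (φ : Fin n → A) (hφ : ∀ j, φ j ∈ 𝒜 1) (x y : β) : cA F φ x y ∈ 𝒜 1 := by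
  rw [cA, Matrix.sum_apply]
  refine sum_mem fun j _ => ?_
  rw [Matrix.smul_apply, Matrix.map_apply, smul_eq_mul, mul_comm, eq_intCast, ← zsmul_eq_mul]
  exact zsmul_mem (hφ j) _

theorem eps_mem {m : ℕ} (φ : Fin m → Fin n → A) (hφ : ∀ i j, φ i j ∈ 𝒜 1) (x y : β) : eps F φ x y ∈ 𝒜 m := by
  induction m generalizing y with
  | zero =>
    rw [eps, Matrix.one_apply]
    split_ifs
    · exact SetLike.GradedOne.one_mem
    · exact zero_mem _
  | succ m ih =>
    rw [eps, Matrix.mul_apply]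
    exact sum_mem fun z _ => SetLike.mul_mem_graded (ih _ (fun i j => hφ i.succ j) z) (cA_mem F 𝒜 _ (hφ 0) z y)

omit [SetLike.GradedMonoid 𝒜] in
theorem dmat_mem (φ : Fin m → Fin n → A) (hφ : ∀ i j, φ i j ∈ 𝒜 1) (s : ℕ) (x : β × Mon m s)
    (y : β × Mon m (s + 1)) : dmat F φ s x y ∈ 𝒜 1 := by
  rw [dmat, Matrix.of_apply]
  refine sum_mem fun i _ => ?_
  split_ifs
  · exact cA_mem F 𝒜 _ (hφ i) _ _
  · exact zero_mem _

end Deg

end K360.ENAlg
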