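import Groth.Agent.VBPn.K699.TwHom
import Groth.Agent.Lefpen.H705.ChartPoly
import Groth.Agent.Coherent.K360.DegenChart
import Groth.Agent.CycB.StalkExact

/-!
# Matrices of forms as morphisms of sums of twists on `P^r_k`

* `rho`: dehomogenization `S → Γ(V, O)` over `V ⊆ D_+(X_j)`.
* `bas`: the basis of `Γ(⨁ O(a), V)`.
* `matMap N : ⨁_κ O(a) ⟶ ⨁_ι O(a + d)` for a matrix of forms of degree `d`; `matMap_comp_eq_zero`;
  `matMap_bas`: its matrix over `V` is `ρ(N)`.
* `exists_matMap`: every morphism `⨁ O(a) ⟶ ⨁ O(a + d)` is a `matMap`.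
* `notMem_support_homology`: exactness on sections near a point.
-/

set_option autoImplicit false
universe u

open CategoryTheory CategoryTheory.Limits AlgebraicGeometry TopologicalSpace Opposite

namespace K360.TwMat

open Groth.Agent Groth.Agent.Divis.ProjPic Groth.Agent.VarietyB.TwistMul Groth.Agent.Ega4dA.GenSec
  Groth.Agent.CohqB.FiniteType2 Groth.Agent.Sga5

attribute [local instance] Abelian.hasFiniteBiproducts

variable {r : ℕ} {k : Type u} [Field k]

variable (r k) in
/-- the polynomial ring -/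
abbrev S : Type u := MvPolynomial (Fin (r + 1)) k

variable (r k) in
/-- its grading -/
noncomputable abbrev gr : ℕ → Submodule k (S r k) := CohB1.polyGrading r k

variable (r k) in
/-- projective space -/
noncomputable abbrev P : Scheme.{u} := CohB1.ProjSpace r k

variable (r k) in
/-- `O(d)`. -/
noncomputable abbrev O (d : ℤ) : (P r k).Modules := Twist.twistProjSpace r k d

/-- The map from the polynomial ring to its localization at a point. -/
noncomputable abbrev al (x : ProjectiveSpectrum (gr r k)) : S r k →+* Twist.Loc (gr r k) x :=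
  algebraMap _ _

/-! ### Dehomogenization -/

variable (j : Fin (r + 1)) {V : (P r k).Opens} (hV : V ≤ LefPen.chart r k j)

/-- Dehomogenization. -/
noncomputable def rho : S r k →+* Γ(P r k, V) :=
  ((P r k).presheaf.map (homOfLE hV).op).hom.comp
    ((Lefpen.H705.ChartPoly.polyToChart j).comp (ProjChart.dehom r k j))

include hV in
theorem al_X_isUnit {x : ProjectiveSpectrum (gr r k)} (hx : x ∈ V) : IsUnit (al x (MvPolynomial.X j)) :=
  IsLocalization.map_units (Twist.Loc (gr r k) x)
    (⟨MvPolynomial.X j, hV hx⟩ : x.asHomogeneousIdeal.toIdeal.primeCompl)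

theorem ev_rho {d : ℕ} (f : S r k) (hf : f ∈ gr r k d) {x : ProjectiveSpectrum (gr r k)} (hx : x ∈ V) :
    ev (𝒜 := gr r k) (U := V) (rho j hV f) x hx * al x (MvPolynomial.X j) ^ d = al x f := by
  have hx' : x ∈ LefPen.chart r k j := hV hx
  have hle : Submonoid.powers (MvPolynomial.X j : S r k) ≤
      x.asHomogeneousIdeal.toIdeal.primeCompl.comap (RingHom.id _) :=
    (Submonoid.powers_le (P := x.asHomogeneousIdeal.toIdeal.primeCompl)).mpr hx'
  let μ : Localization.Away (MvPolynomial.X j : S r k) →+*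
      Localization.AtPrime x.asHomogeneousIdeal.toIdeal :=
    IsLocalization.map (M := .powers (MvPolynomial.X j : S r k))
      (T := x.asHomogeneousIdeal.toIdeal.primeCompl)
        (Localization.AtPrime x.asHomogeneousIdeal.toIdeal) (RingHom.id _) hle
  have h1 : ev (𝒜 := gr r k) (U := V) (rho j hV f) x hx =
      μ (ProjChart.ofPoly r k j (ProjChart.dehom r k j f)).val :=
    ProjectiveSpectrum.Proj.awayToSection_apply (gr r k) (MvPolynomial.X j) _ ⟨x, hx'⟩
  have hμ : ∀ p : S r k, μ (ProjChart.aM r k j p) = algebraMap _ _ p := fun p =>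
    IsLocalization.map_eq _ _
  have h2 := congrArg μ (ProjChart.val_ofPoly_dehom r k j d f hf)
  rw [map_mul, map_pow, map_pow, hμ, hμ] at h2
  exact (congrArg (· * _) h1).trans h2

/-! ### The generator `X_j^a` of `O(a)` -/

/-- `X_j` as an element of degree one. -/
noncomputable def var : gr r k 1 := ⟨MvPolynomial.X j, LefPen.X_mem r k j⟩

/-- `X_j^a`. -/
noncomputable def gen (a : ℤ) : Γ(O r k a, V) :=
  Ega2.TwistInv.powSec (𝒜 := gr r k) (var j) a V (fun _ hx => hV hx)

theorem isGen_gen (a : ℤ) : IsGen (O r k a) V (gen j hV a) :=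
  Ega2.TwistInv.isGen_powSec (𝒜 := gr r k) (var j) a V (fun _ hx => hV hx)

theorem evT_gen (a : ℤ) {x : ProjectiveSpectrum (gr r k)} (hx : x ∈ V) :
    evT (𝒜 := gr r k) (d := a) (U := V) (gen j hV a) x hx * al x (MvPolynomial.X j) ^ (-a).toNat =
      al x (MvPolynomial.X j) ^ a.toNat := by
  have h1 : evT (𝒜 := gr r k) (d := a) (U := V) (gen j hV a) x hx =
    Localization.mk ((MvPolynomial.X j : S r k) ^ a.toNat) ⟨(MvPolynomial.X j) ^ (-a).toNat,
      pow_notMem x (hV hx) _⟩ := rfl
  rw [h1, ← map_pow, ← map_pow]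
  erw [← Localization.mk_one_eq_algebraMap, ← Localization.mk_one_eq_algebraMap, Localization.mk_mul]
  rw [Localization.mk_eq_mk_iff, Localization.r_iff_exists]
  refine ⟨1, ?_⟩
  simp [mul_comm]

theorem mulMap_gen {d : ℕ} (f : gr r k d) {a b : ℤ} (h : a + d = b) :
    (mulMap f h).app V (gen j hV a) = rho j hV f.1 • gen j hV b := by
  refine evT_ext (𝒜 := gr r k) (d := b) (U := V) fun x hx => ?_
  have h1 := evT_smul (𝒜 := gr r k) (d := b) (U := V) (rho j hV f.1) (gen j hV b) x hx
  refine Eq.trans ?_ h1.symm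
  have h2 : evT (𝒜 := gr r k) (d := b) (U := V) ((mulMap f h).app V (gen j hV a)) x hx =
    al x f.1 * evT (𝒜 := gr r k) (d := a) (U := V) (gen j hV a) x hx := rfl
  refine h2.trans ?_
  have hu := al_X_isUnit j hV hx
  have e1 := evT_gen j hV a hx
  have e2 := evT_gen j hV b hx
  have e3 := ev_rho j hV f.1 f.2 hx
  set u := al x (MvPolynomial.X j) with hudef
  set p := evT (𝒜 := gr r k) (d := a) (U := V) (gen j hV a) x hx
  set q := evT (𝒜 := gr r k) (d := b) (U := V) (gen j hV b) x hx
  set E := ev (𝒜 := gr r k) (U := V) (rho j hV f.1) x hx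
  apply (hu.pow ((-a).toNat + (-b).toNat)).mul_left_injective
  dsimp only
  rw [← e3]
  calc E * u ^ d * p * u ^ ((-a).toNat + (-b).toNat) = E * u ^ d * (p * u ^ (-a).toNat) * u ^ (-b).toNat := by
        rw [pow_add]; ring
    _ = E * u ^ (d + a.toNat + (-b).toNat) := by rw [e1, pow_add, pow_add]; ring
    _ = E * u ^ (b.toNat + (-a).toNat) := by
        congr 2
        omega
    _ = E * (q * u ^ (-b).toNat) * u ^ (-a).toNat := by rw [e2, pow_add]; ring
    _ = E * q * u ^ ((-a).toNat + (-b).toNat) := by rw [pow_add]; ring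

/-! ### Bases of sums of twists -/

section Sum

variable {κ ι τ : Type} [Fintype κ] [DecidableEq κ] [Fintype ι] [DecidableEq ι] [Fintype τ] [DecidableEq τ]

variable (r k) in
/-- `⨁_κ O(a)`. -/
noncomputable abbrev sumO (κ : Type) [Finite κ] (a : ℤ) : (P r k).Modules := ⨁ fun _ : κ => O r k a

variable {X : Scheme.{u}} {U : X.Opens}

omit [DecidableEq κ] in
theorem π_ι_self (F : κ → X.Modules) (i : κ) (s : Γ(F i, U)) :
    appLinear (biproduct.π F i) U (appLinear (biproduct.ι F i) U s) = s := by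
  have h : appLinear (biproduct.ι F i ≫ biproduct.π F i) U s = appLinear (𝟙 (F i)) U s := by
    rw [biproduct.ι_π_self]
  exact h

omit [DecidableEq κ] in
theorem π_ι_ne (F : κ → X.Modules) {i l : κ} (hil : i ≠ l) (s : Γ(F i, U)) :
    appLinear (biproduct.π F l) U (appLinear (biproduct.ι F i) U s) = 0 := by
  have h : appLinear (biproduct.ι F i ≫ biproduct.π F l) U s = appLinear (0 : F i ⟶ F l) U s := by
    rw [biproduct.ι_π_ne _ hil]
  exact h

theorem appLinear_sum' {α : Type*} (t : Finset α) {M N : X.Modules} (f : α → (M ⟶ N)) (V : X.Opens) (s : Γ(M, V)) :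
    appLinear (∑ i ∈ t, f i) V s = ∑ i ∈ t, appLinear (f i) V s := by
  have h2 : appLinear (∑ i ∈ t, f i) V = ∑ i ∈ t, appLinear (f i) V :=
    map_sum (⟨⟨fun φ : (M ⟶ N) => appLinear φ V, rfl⟩, fun _ _ => rfl⟩ : (M ⟶ N) →+ _) _ _
  rw [h2, LinearMap.sum_apply]

omit [DecidableEq κ] in
theorem sum_ι_π (F : κ → X.Modules) (s : Γ((⨁ F), U)) :
    ∑ i, appLinear (biproduct.ι F i) U (appLinear (biproduct.π F i) U s) = s := by
  have h : appLinear (∑ i, biproduct.π F i ≫ biproduct.ι F i) U s = appLinear (𝟙 (⨁ F)) U s := by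
    rw [biproduct.total]
  rw [appLinear_sum'] at h
  exact h

/-- Linear combinations of the generators. -/
noncomputable def vec (κ : Type) [Fintype κ] (a : ℤ) : (κ → Γ(P r k, V)) →ₗ[Γ(P r k, V)] Γ(sumO r k κ a, V) :=
  ∑ i : κ, (appLinear (biproduct.ι (fun _ : κ => O r k a) i) V) ∘ₗ
    (LinearMap.toSpanSingleton Γ(P r k, V) Γ(O r k a, V) (gen j hV a)) ∘ₗ (LinearMap.proj i)

omit [DecidableEq κ] in
theorem vec_apply (a : ℤ) (c : κ → Γ(P r k, V)) :
    vec j hV κ a c = ∑ i, c i • appLinear (biproduct.ι (fun _ : κ => O r k a) i) V (gen j hV a) := by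
  rw [vec, LinearMap.sum_apply]
  refine Finset.sum_congr rfl fun i _ => ?_
  rw [LinearMap.comp_apply, LinearMap.comp_apply, LinearMap.proj_apply, LinearMap.toSpanSingleton_apply, map_smul]

omit [DecidableEq κ] in
theorem π_vec (a : ℤ) (c : κ → Γ(P r k, V)) (i : κ) :
    appLinear (biproduct.π (fun _ : κ => O r k a) i) V (vec j hV κ a c) = c i • gen j hV a := by
  rw [vec_apply, map_sum, Finset.sum_eq_single i]
  · rw [map_smul, π_ι_self]
  · intro l _ hl
    rw [map_smul, π_ι_ne _ hl, smul_zero]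
  · intro h
    exact absurd (Finset.mem_univ i) h

theorem gen_bijective (a : ℤ) : Function.Bijective (fun c : Γ(P r k, V) => c • gen j hV a) := by
  have h := isGen_gen j hV a V le_rfl
  have h2 : res (O r k a) (le_refl V) (gen j hV a) = gen j hV a := res_self _ _ _
  rw [h2] at h
  exact h

omit [DecidableEq κ] in
theorem vec_bijective (a : ℤ) : Function.Bijective (vec j hV κ a) := by
  constructor
  · intro c c' h
    funext i
    refine (gen_bijective j hV a).1 ?_
    dsimp only
    rw [← π_vec, ← π_vec, h]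
  · intro s
    choose c hc using fun i : κ => (gen_bijective j hV a).2
      (appLinear (biproduct.π (fun _ : κ => O r k a) i) V s)
    refine ⟨c, ?_⟩
    rw [vec_apply]
    conv_rhs => rw [← sum_ι_π _ s]
    refine Finset.sum_congr rfl fun i _ => ?_
    rw [← hc i, map_smul]

/-- The basis of the sections. -/
noncomputable def bas (κ : Type) [Fintype κ] [DecidableEq κ] (a : ℤ) :
    Module.Basis κ Γ(P r k, V) Γ(sumO r k κ a, V) :=
  Module.Basis.ofEquivFun (LinearEquiv.ofBijective (vec j hV κ a) (vec_bijective j hV a)).symm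

theorem bas_apply (a : ℤ) (i : κ) :
    bas j hV κ a i = appLinear (biproduct.ι (fun _ : κ => O r k a) i) V (gen j hV a) := by
  rw [bas, Module.Basis.coe_ofEquivFun]
  change vec j hV κ a (Pi.single i 1) = _
  rw [vec_apply, Finset.sum_eq_single i]
  · rw [Pi.single_eq_same, one_smul]
  · intro l _ hl
    rw [Pi.single_eq_of_ne hl, zero_smul]
  · intro h
    exact absurd (Finset.mem_univ i) h

theorem bas_repr_vec (a : ℤ) (c : κ → Γ(P r k, V)) (i : κ) : (bas j hV κ a).repr (vec j hV κ a c) i = c i := by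
  have h : (bas j hV κ a).equivFun (vec j hV κ a c) = c := by
    rw [bas, Module.Basis.equivFun_ofEquivFun]
    exact LinearEquiv.symm_apply_apply _ c
  exact congrFun h i

/-! ### Matrices of forms -/

/-- The morphism given by a matrix of forms. -/
noncomputable def matMap (N : Matrix ι κ (S r k)) {d : ℕ} (hN : ∀ i l, N i l ∈ gr r k d) {a b : ℤ}
    (h : a + d = b) : sumO r k κ a ⟶ sumO r k ι b :=
  biproduct.matrix fun l i => mulMap (⟨N i l, hN i l⟩ : gr r k d) h

omit [DecidableEq κ] [DecidableEq ι] in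
theorem ι_matMap_π (N : Matrix ι κ (S r k)) {d : ℕ} (hN : ∀ i l, N i l ∈ gr r k d) {a b : ℤ}
    (h : a + d = b) (l : κ) (i : ι) :
    biproduct.ι (fun _ : κ => O r k a) l ≫ matMap N hN h ≫ biproduct.π (fun _ : ι => O r k b) i =
      mulMap (⟨N i l, hN i l⟩ : gr r k d) h := by
  rw [matMap, biproduct.matrix_π, biproduct.ι_desc]

omit [DecidableEq κ] [DecidableEq ι] in
theorem exists_matMap {d : ℕ} {a b : ℤ} (h : a + d = b) (φ : sumO r k κ a ⟶ sumO r k ι b) :
    ∃ (N : Matrix ι κ (S r k)) (hN : ∀ i l, N i l ∈ gr r k d), φ = matMap N hN h := by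
  choose f hf using fun (i : ι) (l : κ) => K699.TwHom.exists_mulMap (R := k) (n := r) h
    (biproduct.ι (fun _ : κ => O r k a) l ≫ φ ≫ biproduct.π (fun _ : ι => O r k b) i)
  refine ⟨Matrix.of fun i l => (f i l).1, fun i l => (f i l).2, ?_⟩
  refine biproduct.hom_ext' _ _ fun l => biproduct.hom_ext _ _ fun i => ?_
  rw [Category.assoc, Category.assoc, ι_matMap_π]
  exact hf i l

/-- Multiplication as an additive map. -/
noncomputable def mulHom {d : ℕ} {a b : ℤ} (h : a + d = b) : gr r k d →+ (O r k a ⟶ O r k b) where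
  toFun f := mulMap f h
  map_zero' := mulMap_zero h
  map_add' f g := mulMap_add f g h

omit [DecidableEq ι] [DecidableEq τ] [DecidableEq κ] in
theorem matMap_comp_eq_zero (N : Matrix ι κ (S r k)) (N' : Matrix κ τ (S r k)) {d d' : ℕ}
    (hN : ∀ i l, N i l ∈ gr r k d) (hN' : ∀ i l, N' i l ∈ gr r k d') {a b c : ℤ}
    (h : b + d = c) (h' : a + d' = b) (hz : N * N' = 0) : matMap N' hN' h' ≫ matMap N hN h = 0 := by
  refine biproduct.hom_ext' _ _ fun t => biproduct.hom_ext _ _ fun i => ?_
  rw [comp_zero, zero_comp]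
  have h1 : matMap N' hN' h' ≫ matMap N hN h =
      ∑ l, (matMap N' hN' h' ≫ biproduct.π (fun _ : κ => O r k b) l) ≫
        (biproduct.ι (fun _ : κ => O r k b) l ≫ matMap N hN h) := by
    conv_lhs => rw [← Category.id_comp (matMap N hN h), ← biproduct.total]
    rw [Preadditive.sum_comp, Preadditive.comp_sum]
    exact Finset.sum_congr rfl fun l _ => by simp only [Category.assoc]
  rw [h1, Preadditive.comp_sum, Preadditive.sum_comp]
  have h2 : ∀ l, (biproduct.ι (fun _ : τ => O r k a) t ≫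
      (matMap N' hN' h' ≫ biproduct.π (fun _ : κ => O r k b) l) ≫
        biproduct.ι (fun _ : κ => O r k b) l ≫ matMap N hN h) ≫ biproduct.π (fun _ : ι => O r k c) i =
      mulMap (⟨N' l t * N i l, SetLike.mul_mem_graded (hN' l t) (hN i l)⟩ : gr r k (d' + d))
        (show a + ((d' + d : ℕ) : ℤ) = c by push_cast; omega) := by
    intro l
    have e1 : (biproduct.ι (fun _ : τ => O r k a) t ≫
      (matMap N' hN' h' ≫ biproduct.π (fun _ : κ => O r k b) l) ≫
        biproduct.ι (fun _ : κ => O r k b) l ≫ matMap N hN h) ≫ biproduct.π (fun _ : ι => O r k c) i =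
      (biproduct.ι (fun _ : τ => O r k a) t ≫ matMap N' hN' h' ≫ biproduct.π (fun _ : κ => O r k b) l) ≫
        (biproduct.ι (fun _ : κ => O r k b) l ≫ matMap N hN h ≫ biproduct.π (fun _ : ι => O r k c) i) := by
      simp only [Category.assoc]
    refine e1.trans ((congrArg₂ (· ≫ ·) (ι_matMap_π N' hN' h' t l) (ι_matMap_π N hN h l i)).trans ?_)
    exact mulMap_comp (⟨N' l t, hN' l t⟩ : gr r k d') (⟨N i l, hN i l⟩ : gr r k d) _ rfl h' h _
  rw [Finset.sum_congr rfl fun l _ => h2 l]
  have h3 := congrFun (congrFun hz i) t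
  rw [Matrix.mul_apply, Matrix.zero_apply] at h3
  have h4 := map_sum (mulHom (r := r) (k := k) (d := d' + d) (a := a) (b := c) (by push_cast; omega))
    (fun l => (⟨N' l t * N i l, SetLike.mul_mem_graded (hN' l t) (hN i l)⟩ : gr r k (d' + d))) Finset.univ
  refine h4.symm.trans ?_
  have h5 : (∑ l, (⟨N' l t * N i l, SetLike.mul_mem_graded (hN' l t) (hN i l)⟩ : gr r k (d' + d))) = 0 := by
    refine Subtype.ext ?_
    rw [AddSubmonoidClass.coe_finsetSum, ZeroMemClass.coe_zero, ← h3]
    exact Finset.sum_congr rfl fun l _ => mul_comm _ _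
  rw [h5, map_zero]

omit [DecidableEq ι] in
theorem matMap_bas (N : Matrix ι κ (S r k)) {d : ℕ} (hN : ∀ i l, N i l ∈ gr r k d) {a b : ℤ}
    (h : a + d = b) (l : κ) :
    appLinear (matMap N hN h) V (bas j hV κ a l) = vec j hV ι b (fun i => rho j hV (N i l)) := by
  rw [bas_apply, vec_apply, ← sum_ι_π _ (appLinear (matMap N hN h) V _)]
  refine Finset.sum_congr rfl fun i _ => ?_
  have h1 : appLinear (biproduct.π (fun _ : ι => O r k b) i) V (appLinear (matMap N hN h) V
      (appLinear (biproduct.ι (fun _ : κ => O r k a) l) V (gen j hV a))) =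
      appLinear (biproduct.ι (fun _ : κ => O r k a) l ≫ matMap N hN h ≫
        biproduct.π (fun _ : ι => O r k b) i) V (gen j hV a) := rfl
  rw [h1, ι_matMap_π, ← map_smul]
  exact congrArg _ (mulMap_gen j hV _ h)

/-- The matrix over `V`. -/
theorem mat_matMap (N : Matrix ι κ (S r k)) {d : ℕ} (hN : ∀ i l, N i l ∈ gr r k d) {a b : ℤ}
    (h : a + d = b) :
    K360.DegenChart.mat (bas j hV κ a) (bas j hV ι b) (matMap N hN h) = N.map (rho j hV) := by
  ext i l
  rw [K360.DegenChart.mat_apply]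
  refine (congrArg (fun s => (bas j hV ι b).repr s i) (matMap_bas j hV N hN h l)).trans ?_
  rw [bas_repr_vec]
  rfl

/-- The map on sections. -/
theorem matMap_vec (N : Matrix ι κ (S r k)) {d : ℕ} (hN : ∀ i l, N i l ∈ gr r k d) {a b : ℤ}
    (h : a + d = b) (c : κ → Γ(P r k, V)) :
    appLinear (matMap N hN h) V (vec j hV κ a c) = vec j hV ι b ((N.map (rho j hV)).mulVec c) := by
  have h1 : vec j hV κ a c = ∑ l, c l • bas j hV κ a l := by
    rw [vec_apply]
    exact Finset.sum_congr rfl fun l _ => by rw [bas_apply]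
  rw [h1, map_sum]
  have h2 : (N.map (rho j hV)).mulVec c = ∑ l, c l • (fun i => rho j hV (N i l)) := by
    funext i
    rw [Finset.sum_apply]
    exact Finset.sum_congr rfl fun l _ => mul_comm _ _
  rw [h2, map_sum]
  refine Finset.sum_congr rfl fun l _ => ?_
  rw [map_smul, map_smul, matMap_bas]

end Sum

/-! ### Homology supports -/

theorem notMem_support_homology {X : Scheme.{u}} (S : ShortComplex X.Modules) (x : X) (V : X.Opens) (hx : x ∈ V)
    (h : ∀ W : X.Opens, W ≤ V → ∀ s : Γ(S.X₂, W), S.g.app W s = 0 → ∃ t : Γ(S.X₁, W), S.f.app W t = s) :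
    x ∉ CohB1.support S.homology := by
  have hex : (S.map (CycB.StalkExact.stalkFun x)).Exact := by
    rw [ShortComplex.ab_exact_iff]
    intro y hy
    obtain ⟨W, hxW, s, rfl⟩ := S.X₂.presheaf.exists_germ_eq y
    have h1 : S.X₃.presheaf.germ W x hxW (S.g.app W s) = S.X₃.presheaf.germ W x hxW 0 := by
      rw [map_zero, ← CycB.StalkExact.stalkFun_map_germ]
      exact hy
    obtain ⟨W', hxW', i₁, i₂, h2⟩ := TopCat.Presheaf.germ_eq _ x hxW hxW _ _ h1
    obtain ⟨t, ht⟩ := h (W' ⊓ V) inf_le_right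
      (S.X₂.presheaf.map (homOfLE (inf_le_left.trans i₁.le : W' ⊓ V ≤ W)).op s) (by
        have e1 := Dcoh.Restrict.app_map_apply S.g (homOfLE (inf_le_left.trans i₁.le : W' ⊓ V ≤ W)) s
        rw [e1]
        have e2 := congrArg (fun z => S.X₃.presheaf.map (homOfLE (inf_le_left : W' ⊓ V ≤ W')).op z) h2
        dsimp only at e2
        rw [map_zero, map_zero] at e2
        rw [← e2]
        exact (ConcreteCategory.congr_hom (S.X₃.presheaf.map_comp i₁.op (homOfLE (inf_le_left : W' ⊓ V ≤ W')).op) _))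
    refine ⟨S.X₁.presheaf.germ (W' ⊓ V) x ⟨hxW', hx⟩ t, ?_⟩
    have h3 := CycB.StalkExact.stalkFun_map_germ S.f x (⟨hxW', hx⟩ : x ∈ W' ⊓ V) t
    refine h3.trans ?_
    rw [ht]
    exact TopCat.Presheaf.germ_res_apply _ _ _ _ _
  rw [ShortComplex.exact_iff_isZero_homology] at hex
  have h4 : IsZero ((CycB.StalkExact.stalkFun x).obj S.homology) :=
    hex.of_iso (S.mapHomologyIso (CycB.StalkExact.stalkFun x)).symm
  have h5 : Subsingleton ((CycB.StalkExact.stalkFun x).obj S.homology) := AddCommGrpCat.subsingleton_of_isZero h4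
  exact fun h6 => h6 h5

end K360.TwMat
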