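import Groth.Agent.Variety.K360.ENReg
import Groth.Agent.Variety.K360.ENAlg
import Groth.Agent.Variety.K360.TwMat
import Groth.Agent.PerfA.IdealModule

/-!
# Matrices of linear forms: regularity of the ideal of maximal minors

For an `m × n` matrix `φ` of linear forms on `P^r_k`, the complex
`⋯ → (Fock × Mon 1) ⊗ O(-m-1) → Fock ⊗ O(-m) → Fock ⊗ O` is exact away from the locus of the maximal minors and
the ideal sheaf of maximal minors is a retract of the image of the last map.
-/

set_option autoImplicit false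

universe u

open CategoryTheory CategoryTheory.Limits AlgebraicGeometry TopologicalSpace Opposite

namespace K360.ENSheaf

open Groth.Agent K360.Fock K360.ENAlg K360.TwMat K360.ENReg K821.Minors
open Groth.Agent.Divis.ProjPic Groth.Agent.VarietyB.TwistMul Groth.Agent.Ega4dA.GenSec
  Groth.Agent.CohqB.FiniteType2
open Matrix

attribute [local instance] Abelian.hasFiniteBiproducts

/-! ### A right inverse up to a maximal minor -/

theorem exists_dual {A : Type*} [CommRing A] {m n : ℕ} (φ : Fin m → Fin n → A) (x : A)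
    (hx : x ∈ minorIdeal m (Matrix.of φ)) :
    ∃ u : Fin m → Fin n → A, ∀ k i, φ k ⬝ᵥ u i = if k = i then x else 0 := by
  let N : Ideal A :=
    { carrier := {x | ∃ u : Fin m → Fin n → A, ∀ k i, φ k ⬝ᵥ u i = if k = i then x else 0}
      add_mem' := by
        rintro x y ⟨u, hu⟩ ⟨w, hw⟩
        refine ⟨u + w, fun k i => ?_⟩
        rw [Pi.add_apply, dotProduct_add, hu, hw]
        split_ifs <;> simp
      zero_mem' := ⟨0, fun k i => by simp⟩
      smul_mem' := by
        rintro a x ⟨u, hu⟩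
        refine ⟨a • u, fun k i => ?_⟩
        rw [Pi.smul_apply, dotProduct_smul, hu]
        split_ifs <;> simp }
  have hN : minorIdeal m (Matrix.of φ) ≤ N := by
    rw [minorIdeal_le_iff]
    intro e J
    by_cases he : Function.Injective e
    · let σ : Equiv.Perm (Fin m) := Equiv.ofBijective e (Finite.injective_iff_bijective.1 he)
      have h1 : (Matrix.of φ).submatrix e J = ((Matrix.of φ).submatrix id J).submatrix σ id := rfl
      set B : Matrix (Fin m) (Fin m) A := (Matrix.of φ).submatrix id J with hB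
      have h2 : B.det ∈ N := by
        refine ⟨fun i => ∑ l, B.adjugate l i • Pi.single (J l) (1 : A), fun k i => ?_⟩
        have h3 : φ k ⬝ᵥ (∑ l, B.adjugate l i • Pi.single (J l) (1 : A)) = (B * B.adjugate) k i := by
          rw [dotProduct_sum, Matrix.mul_apply]
          refine Finset.sum_congr rfl fun l _ => ?_
          rw [dotProduct_smul, dotProduct_single_one, smul_eq_mul, mul_comm]
          rfl
        rw [h3, Matrix.mul_adjugate, Matrix.smul_apply, Matrix.one_apply, smul_eq_mul]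
        split_ifs <;> simp
      rw [h1, Matrix.det_permute]
      exact N.mul_mem_left _ h2
    · rw [Function.Injective] at he
      push Not at he
      obtain ⟨i, j, hij, hne⟩ := he
      rw [Matrix.det_zero_of_row_eq hne (by
        ext b
        rw [Matrix.submatrix_apply, Matrix.submatrix_apply, hij])]
      exact N.zero_mem
  exact hN hx

/-! ### Morphisms are determined on small affine opens -/

section Charts

variable {r : ℕ} {k : Type u} [Field k]

theorem exists_chart (x : P r k) (U : (P r k).Opens) (hx : x ∈ U) :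
    ∃ (j : Fin (r + 1)) (V : (P r k).Opens), IsAffineOpen V ∧ V ≤ LefPen.chart r k j ∧ V ≤ U ∧ x ∈ V := by
  have h1 : x ∈ (⨆ j : Fin (r + 1), LefPen.chart r k j) := by
    rw [Lefpen.H705.HypIdeal.iSup_chart]
    trivial
  rw [Opens.mem_iSup] at h1
  obtain ⟨j, hj⟩ := h1
  obtain ⟨V, hV, hxV, hVU⟩ := Opens.isBasis_iff_nbhd.mp (P r k).isBasis_affineOpens
    (show x ∈ LefPen.chart r k j ⊓ U from ⟨hj, hx⟩)
  exact ⟨j, V, hV, hVU.trans inf_le_left, hVU.trans inf_le_right, hxV⟩

theorem eq_zero_of_charts {M N : (P r k).Modules} (f : M ⟶ N)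
    (h : ∀ (j : Fin (r + 1)) (V : (P r k).Opens), IsAffineOpen V → V ≤ LefPen.chart r k j →
      ∀ s : Γ(M, V), f.app V s = 0) : f = 0 := by
  refine hom_ext_apply _ _ fun U s => ?_
  refine eq_of_locally N fun x hx => ?_
  obtain ⟨j, V, hV, hVj, hVU, hxV⟩ := exists_chart x U hx
  refine ⟨V, hVU, hxV, ?_⟩
  have h1 : res N hVU (f.app U s) = f.app V (res M hVU s) :=
    (Dcoh.Restrict.app_map_apply f (homOfLE hVU) s).symm
  rw [h1, h j V hV hVj]
  exact (map_zero _).symm

end Charts

/-! ### The complex -/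

section Cx

variable {r : ℕ} {k : Type u} [Field k] {m n : ℕ} {β : Type} [Fintype β] [DecidableEq β]
  (F : Fock.Rep n β) (φ : Fin m → Fin n → S r k) (hφ : ∀ i l, φ i l ∈ gr r k 1)

variable (r k m β) in
/-- The terms. -/
noncomputable abbrev XE (s : ℕ) : (P r k).Modules := sumO r k (β × Mon m s) (-((m + s : ℕ) : ℤ))

/-- The differentials. -/
noncomputable def dE (s : ℕ) : XE r k m β (s + 1) ⟶ XE r k m β s :=
  matMap (dmat F φ s) (d := 1) (fun x y => dmat_mem F (gr r k) φ hφ s x y) (by push_cast; ring)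

/-- The augmentation. -/
noncomputable def eE : XE r k m β 0 ⟶ sumO r k β 0 :=
  matMap (emat F φ) (d := m) (fun x y => eps_mem F (gr r k) φ hφ x y.1) (by push_cast; ring)

theorem dE_dE (s : ℕ) : dE F φ hφ (s + 1) ≫ dE F φ hφ s = 0 :=
  matMap_comp_eq_zero _ _ _ _ _ _ (dmat_mul_dmat F φ s)

theorem dE_eE : dE F φ hφ 0 ≫ eE F φ hφ = 0 :=
  matMap_comp_eq_zero _ _ _ _ _ _ (emat_mul_dmat F φ)

/-- Restriction of the dehomogenization. -/
theorem rho_res (j : Fin (r + 1)) {V W : (P r k).Opens} (hV : V ≤ LefPen.chart r k j) (hW : W ≤ V) (f : S r k) :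
    rho j (hW.trans hV) f = ((P r k).presheaf.map (homOfLE hW).op).hom (rho j hV f) := by
  rw [rho, rho]
  simp only [RingHom.comp_apply]
  rw [← CommRingCat.comp_apply, ← (P r k).presheaf.map_comp]
  rfl

/-- Local exactness. -/
theorem exact_local (j : Fin (r + 1)) {V : (P r k).Opens} (hV : V ≤ LefPen.chart r k j)
    (hu : ∃ u : Fin m → Fin n → Γ(P r k, V), ∀ a i, (fun l => rho j hV (φ a l)) ⬝ᵥ u i = if a = i then 1 else 0)
    (W : (P r k).Opens) (hW : W ≤ V) :
    (∀ s : Γ(XE r k m β 0, W), (eE F φ hφ).app W s = 0 → ∃ t, (dE F φ hφ 0).app W t = s) ∧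
    ∀ q, ∀ s : Γ(XE r k m β (q + 1), W), (dE F φ hφ q).app W s = 0 → ∃ t, (dE F φ hφ (q + 1)).app W t = s := by
  obtain ⟨u, hu⟩ := hu
  have hWj : W ≤ LefPen.chart r k j := hW.trans hV
  let ρ' : Γ(P r k, V) →+* Γ(P r k, W) := ((P r k).presheaf.map (homOfLE hW).op).hom
  have hu' : ∀ a i, (fun l => rho j hWj (φ a l)) ⬝ᵥ (fun l => ρ' (u i l)) = if a = i then 1 else 0 := by
    intro a i
    have h1 := congrArg ρ' (hu a i)
    rw [dotProduct, map_sum] at h1
    have h2 : ρ' (if a = i then 1 else 0) = if a = i then 1 else 0 := by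
      split_ifs
      · exact map_one _
      · exact map_zero _
    rw [← h2, ← h1, dotProduct]
    refine Finset.sum_congr rfl fun l _ => ?_
    rw [map_mul]
    exact congrArg (· * _) (rho_res j hV hW _)
  constructor
  · intro s hs
    obtain ⟨c, rfl⟩ := (vec_bijective j hWj _).2 s
    have h1 : vec j hWj β 0 (((emat F φ).map (rho j hWj)).mulVec c) = 0 :=
      (matMap_vec j hWj (emat F φ) _ _ c).symm.trans hs
    have h2 := (vec_bijective j hWj (κ := β) 0).1 (h1.trans (map_zero _).symm)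
    rw [emat_map] at h2
    obtain ⟨w, hw⟩ := emat_exact F _ (fun i l => ρ' (u i l)) hu' c h2
    refine ⟨vec j hWj _ _ w, ?_⟩
    have h3 := matMap_vec j hWj (dmat F φ 0) (fun x y => dmat_mem F (gr r k) φ hφ 0 x y)
      (show (-((m + (0 + 1) : ℕ) : ℤ)) + ((1 : ℕ) : ℤ) = -((m + 0 : ℕ) : ℤ) by push_cast; ring) w
    refine h3.trans ?_
    rw [dmat_map, hw]
  · intro q s hs
    obtain ⟨c, rfl⟩ := (vec_bijective j hWj _).2 s
    have h1 : vec j hWj (β × Mon m q) (-((m + q : ℕ) : ℤ)) (((dmat F φ q).map (rho j hWj)).mulVec c) = 0 :=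
      (matMap_vec j hWj (dmat F φ q) _ _ c).symm.trans hs
    have h2 := (vec_bijective j hWj (κ := β × Mon m q) _).1 (h1.trans (map_zero _).symm)
    rw [dmat_map] at h2
    obtain ⟨w, hw⟩ := dmat_exact F _ (fun i l => ρ' (u i l)) hu' c h2
    refine ⟨vec j hWj _ _ w, ?_⟩
    have h3 := matMap_vec j hWj (dmat F φ (q + 1)) (fun x y => dmat_mem F (gr r k) φ hφ (q + 1) x y)
      (show (-((m + (q + 1 + 1) : ℕ) : ℤ)) + ((1 : ℕ) : ℤ) = -((m + (q + 1) : ℕ) : ℤ) by push_cast; ring) w
    refine h3.trans ?_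
    rw [dmat_map, hw]

/-- The given matrix as a morphism. -/
noncomputable def lin : sumO r k (Fin n) (-1) ⟶ sumO r k (Fin m) 0 :=
  matMap (Matrix.of φ) (d := 1) (fun i l => hφ i l) (by norm_num)

/-- The Fitting ideal. -/
noncomputable abbrev fit : (P r k).IdealSheafData := Fitt.sheafIdeal (cokernel (lin φ hφ)) 0

theorem fit_ideal (j : Fin (r + 1)) {V : (P r k).Opens} (hV : V ≤ LefPen.chart r k j) (hVa : IsAffineOpen V) :
    (fit φ hφ).ideal ⟨V, hVa⟩ = minorIdeal m (Matrix.of fun i l => rho j hV (φ i l)) := by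
  have h1 := K360.DegenChart.fitt_ideal (bas j hV (Fin n) (-1)) (bas j hV (Fin m) 0)
    (isCoh_sumO' (n := r) (k := k) (Fin n) (-1)).1 (isCoh_sumO' (n := r) (k := k) (Fin m) 0).1
    (isCoh_sumO' (n := r) (k := k) (Fin m) 0).2 (lin φ hφ) hVa 0
  rw [Fintype.card_fin, Nat.sub_zero, lin, mat_matMap] at h1
  exact h1

/-- Away from the support of the Fitting ideal the matrix has a right inverse. -/
theorem exists_dual_near (x : P r k) (hx : x ∉ (fit φ hφ).support) :
    ∃ (j : Fin (r + 1)) (V : (P r k).Opens) (hV : V ≤ LefPen.chart r k j), x ∈ V ∧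
      ∃ u : Fin m → Fin n → Γ(P r k, V), ∀ a i, (fun l => rho j hV (φ a l)) ⬝ᵥ u i = if a = i then 1 else 0 := by
  obtain ⟨j, U, hUa, hUj, -, hxU⟩ := exists_chart x ⊤ trivial
  rw [Scheme.IdealSheafData.mem_support_iff_of_mem (U := ⟨U, hUa⟩) hxU, Scheme.mem_zeroLocus_iff] at hx
  push Not at hx
  obtain ⟨f, hf, hxf⟩ := hx
  rw [SetLike.mem_coe, fit_ideal φ hφ j hUj hUa] at hf
  obtain ⟨u, hu⟩ := exists_dual _ f hf
  have hle : (P r k).basicOpen f ≤ U := (P r k).basicOpen_le f
  let ρ' : Γ(P r k, U) →+* Γ(P r k, (P r k).basicOpen f) := ((P r k).presheaf.map (homOfLE hle).op).hom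
  have hunit : IsUnit (ρ' f) := (P r k).toRingedSpace.isUnit_res_basicOpen f
  obtain ⟨g, hg⟩ := hunit.exists_left_inv
  refine ⟨j, (P r k).basicOpen f, hle.trans hUj, hxf, fun i l => g * ρ' (u i l), fun a i => ?_⟩
  have h1 := congrArg ρ' (hu a i)
  rw [dotProduct, map_sum] at h1
  have h2 : g * ρ' (if a = i then f else 0) = if a = i then 1 else 0 := by
    split_ifs
    · exact hg
    · rw [map_zero, mul_zero]
  rw [← h2, ← h1, dotProduct, Finset.mul_sum]
  refine Finset.sum_congr rfl fun l _ => ?_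
  rw [map_mul, mul_left_comm]
  exact congrArg (fun z => g * (z * ρ' (u i l))) (rho_res j hUj hle _) |>.symm ▸ rfl

theorem dim_le_of_subset {X : Scheme.{u}} {A B : Set X} (h : A ⊆ B) (hB : topologicalKrullDim B ≤ 1) :
    topologicalKrullDim A ≤ 1 :=
  ((Topology.IsEmbedding.inclusion h).isInducing.topologicalKrullDim_le).trans hB

theorem support_homology_zero (hz : dE F φ hφ 0 ≫ eE F φ hφ = 0) :
    CohB1.support (ShortComplex.mk (dE F φ hφ 0) (eE F φ hφ) hz).homology ⊆
      ((fit φ hφ).support : Set (P r k)) := by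
  intro x hx
  by_contra hxs
  obtain ⟨j, V, hV, hxV, hu⟩ := exists_dual_near φ hφ x hxs
  exact notMem_support_homology (ShortComplex.mk (dE F φ hφ 0) (eE F φ hφ) hz) x V hxV
    (fun W hW s hs => (exact_local F φ hφ j hV hu W hW).1 s hs) hx

theorem support_homology_succ (q : ℕ) (hz : dE F φ hφ (q + 1) ≫ dE F φ hφ q = 0) :
    CohB1.support (ShortComplex.mk (dE F φ hφ (q + 1)) (dE F φ hφ q) hz).homology ⊆
      ((fit φ hφ).support : Set (P r k)) := by
  intro x hx
  by_contra hxs
  obtain ⟨j, V, hV, hxV, hu⟩ := exists_dual_near φ hφ x hxs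
  exact notMem_support_homology (ShortComplex.mk (dE F φ hφ (q + 1)) (dE F φ hφ q) hz) x V hxV
    (fun W hW s hs => (exact_local F φ hφ j hV hu W hW).2 q s hs) hx

theorem isMRegular_image_eE (hdim : topologicalKrullDim ((fit φ hφ).support : Set (P r k)) ≤ 1) :
    Curv2.IsMRegular k r (Abelian.image (eE F φ hφ)) m := by
  refine ENReg.isMRegular_image (XE r k m β) (dE F φ hφ) (dE_dE F φ hφ) (fun s => isCoh_sumO' _ _) m
    (fun s => ?_) (fun s => ?_) (isCoh_sumO' _ _) (eE F φ hφ) (dE_eE F φ hφ) ?_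
  · have h := isMRegular_sumO (n := r) (k := k) (β × Mon m s) ((m + s : ℕ) : ℤ)
    have e : (m : ℤ) + (s : ℤ) = ((m + s : ℕ) : ℤ) := (Nat.cast_add m s).symm
    rw [e]
    exact h
  · exact dim_le_of_subset (support_homology_succ F φ hφ s _) hdim
  · exact dim_le_of_subset (support_homology_zero F φ hφ _) hdim

/-! ### The retraction -/

/-- The inclusion of the vacuum. -/
noncomputable def inj : Coh.structureModule (P r k) ⟶ sumO r k β 0 :=
  (zeroIso (gr r k)).hom ≫ biproduct.ι (fun _ : β => O r k 0) F.Ω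

/-- The projection to the vacuum. -/
noncomputable def prj : sumO r k β 0 ⟶ Coh.structureModule (P r k) :=
  biproduct.π (fun _ : β => O r k 0) F.Ω ≫ (zeroIso (gr r k)).inv

theorem inj_prj : inj (r := r) (k := k) F ≫ prj F = 𝟙 _ := by
  rw [inj, prj, Category.assoc]
  erw [biproduct.ι_π_self_assoc]
  exact (zeroIso (gr r k)).hom_inv_id

theorem zeroHom_app (j : Fin (r + 1)) {V : (P r k).Opens} (hV : V ≤ LefPen.chart r k j) (c : Γ(P r k, V)) :
    (zeroIso (gr r k)).hom.app V c = c • gen j hV 0 := by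
  refine evT_ext (𝒜 := gr r k) (d := 0) (U := V) fun x hx => ?_
  have h1 := evT_smul (𝒜 := gr r k) (d := 0) (U := V) c (gen j hV 0) x hx
  refine Eq.trans ?_ h1.symm
  have h2 := evT_gen j hV 0 hx
  rw [neg_zero, Int.toNat_zero, pow_zero, mul_one] at h2
  rw [h2, mul_one]
  exact smul_oneAt_coe x _

theorem inj_app (j : Fin (r + 1)) {V : (P r k).Opens} (hV : V ≤ LefPen.chart r k j) (c : Γ(P r k, V)) :
    (inj F).app V c = vec j hV β 0 (c • vac F) := by
  rw [vec_apply, Finset.sum_eq_single F.Ω]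
  · have h1 : (inj F).app V c = appLinear (biproduct.ι (fun _ : β => O r k 0) F.Ω) V
      ((zeroIso (gr r k)).hom.app V c) := rfl
    rw [h1, zeroHom_app j hV, map_smul, Pi.smul_apply, vac, Pi.single_eq_same, smul_eq_mul, mul_one]
  · intro b _ hb
    rw [Pi.smul_apply, vac, Pi.single_eq_of_ne hb, smul_zero, zero_smul]
  · intro h
    exact absurd (Finset.mem_univ _) h

theorem prj_app (j : Fin (r + 1)) {V : (P r k).Opens} (hV : V ≤ LefPen.chart r k j) (c : β → Γ(P r k, V)) :
    (prj F).app V (vec j hV β 0 c) = c F.Ω := by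
  have h1 : (zeroIso (gr r k)).hom.app V ((prj F).app V (vec j hV β 0 c)) = c F.Ω • gen j hV 0 := by
    rw [← π_vec]
    have h2 := congrArg (fun f => Scheme.Modules.Hom.app f V
      (appLinear (biproduct.π (fun _ : β => O r k 0) F.Ω) V (vec j hV β 0 c))) (zeroIso (gr r k)).inv_hom_id
    exact h2
  rw [← zeroHom_app j hV] at h1
  exact (zeroHom_app_bijective (𝒜 := gr r k) V).1 h1

theorem mem_of_app (j : Fin (r + 1)) {V : (P r k).Opens} (hV : V ≤ LefPen.chart r k j) (hVa : IsAffineOpen V)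
    (s : Γ(XE r k m β 0, V)) : (show Γ(P r k, V) from (prj F).app V ((eE F φ hφ).app V s)) ∈
      (fit φ hφ).ideal ⟨V, hVa⟩ := by
  obtain ⟨c, rfl⟩ := (vec_bijective j hV _).2 s
  have h1 : (eE F φ hφ).app V (vec j hV _ _ c) = vec j hV β 0 (((emat F φ).map (rho j hV)).mulVec c) :=
    matMap_vec j hV (emat F φ) _ _ c
  rw [h1, prj_app, fit_ideal φ hφ j hV hVa, emat_map]
  change ∑ y, eps F (fun i l => rho j hV (φ i l)) F.Ω y.1 * c y ∈ _
  exact Ideal.sum_mem _ fun y _ => Ideal.mul_mem_right _ _ (eps_Ω_mem F _ _)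

theorem exists_app (j : Fin (r + 1)) {V : (P r k).Opens} (hV : V ≤ LefPen.chart r k j) (hVa : IsAffineOpen V)
    (a : Γ(P r k, V)) (ha : a ∈ (fit φ hφ).ideal ⟨V, hVa⟩) :
    ∃ s : Γ(XE r k m β 0, V), (eE F φ hφ).app V s = (inj F).app V a := by
  rw [fit_ideal φ hφ j hV hVa] at ha
  obtain ⟨z, hz⟩ := exists_eps_eq F _ a ha
  refine ⟨vec j hV _ _ (fun y => z y.1), ?_⟩
  have h1 : (eE F φ hφ).app V (vec j hV _ _ (fun y : β × Mon m 0 => z y.1)) =
      vec j hV β 0 (((emat F φ).map (rho j hV)).mulVec (fun y : β × Mon m 0 => z y.1)) :=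
    matMap_vec j hV (emat F φ) _ _ _
  rw [h1, inj_app F j hV, ← hz, emat_map, emat_mulVec]
  congr 2
  funext b
  exact (ext0_apply _ _ (mon0 m).2 b)

/-- The ideal sheaf of maximal minors. -/
noncomputable abbrev IM : (P r k).Modules := ClSub.idealMod (fit φ hφ)

/-- The inclusion of the ideal sheaf. -/
noncomputable def toImage : IM φ hφ ⟶ Abelian.image (eE F φ hφ) :=
  kernel.lift _ (ClSub.idealModι (fit φ hφ) ≫ inj F) (by
    refine eq_zero_of_charts _ fun j V hVa hV s => ?_
    obtain ⟨t, ht⟩ := exists_app F φ hφ j hV hVa (PerfA.IdealModule.val (fit φ hφ) s)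
      (PerfA.IdealModule.val_mem (fit φ hφ) ⟨V, hVa⟩ s)
    change (cokernel.π (eE F φ hφ)).app V ((inj F).app V (PerfA.IdealModule.val (fit φ hφ) s)) = 0
    rw [← ht]
    exact congrArg (fun f => Scheme.Modules.Hom.app f V t) (cokernel.condition (eE F φ hφ)))

/-- The retraction. -/
noncomputable def ofImage : Abelian.image (eE F φ hφ) ⟶ IM φ hφ :=
  kernel.lift _ (Abelian.image.ι (eE F φ hφ) ≫ prj F) (by
    rw [← cancel_epi (Abelian.factorThruImage (eE F φ hφ)), comp_zero, ← Category.assoc, ← Category.assoc,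
      Abelian.image.fac]
    refine eq_zero_of_charts _ fun j V hVa hV s => ?_
    have h1 := mem_of_app F φ hφ j hV hVa s
    rw [← Scheme.IdealSheafData.ker_subschemeι_app, RingHom.mem_ker] at h1
    exact h1)

theorem toImage_ofImage : toImage F φ hφ ≫ ofImage F φ hφ = 𝟙 _ := by
  have h0 : ofImage F φ hφ ≫ ClSub.idealModι (fit φ hφ) = Abelian.image.ι (eE F φ hφ) ≫ prj F :=
    kernel.lift_ι _ _ _
  have h1 : toImage F φ hφ ≫ Abelian.image.ι (eE F φ hφ) = ClSub.idealModι (fit φ hφ) ≫ inj F :=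
    kernel.lift_ι _ _ _
  rw [← cancel_mono (ClSub.idealModι (fit φ hφ)), Category.assoc, h0, ← Category.assoc, h1, Category.assoc,
    inj_prj, Category.comp_id, Category.id_comp]

end Cx

/-- **The ideal sheaf of the maximal minors of an `m × n` matrix of linear forms is `m`-regular if its zero locus
has dimension at most one.** -/
theorem isMRegular_fit {r : ℕ} {k : Type u} [Field k] {m n : ℕ} (φ : Fin m → Fin n → S r k)
    (hφ : ∀ i l, φ i l ∈ gr r k 1)
    (hdim : topologicalKrullDim ((fit φ hφ).support : Set (P r k)) ≤ 1) :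
    Curv2.IsMRegular k r (ClSub.idealMod (fit φ hφ)) m := by
  obtain ⟨β, _, _, ⟨F⟩⟩ := exists_rep n
  exact ENReg.IsMRegular.retract (toImage F φ hφ) (ofImage F φ hφ) (toImage_ofImage F φ hφ)
    (isMRegular_image_eE F φ hφ hdim)

end K360.ENSheaf
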