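import Groth.Agent.Variety.K428.Reg
import Groth.Agent.Sga67.CMReg
import Groth.Agent.CohqA.HBiprod

/-!
# Regularity of the images of an (unbounded) complex with small homology

* `step`, `van`: in a sequence `⋯ → X 1 → X 0 → E` with `X s` `(m + s)`-regular and homology of dimension at most
  one, the image of `X 0 → E` is `m`-regular.
* `IsMRegular.retract`: retracts of regular modules.
* `isCoh_sumO'`, `isMRegular_sumO`: `⨁ O(-a)` is `a`-regular.
-/

set_option autoImplicit false

universe u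

open CategoryTheory CategoryTheory.Limits AlgebraicGeometry TopologicalSpace

namespace K360.ENReg

open Groth.Agent K428.Reg
open Groth.Agent.Sga67.SerreVB (tw)

attribute [local instance] Abelian.hasFiniteBiproducts

variable {n : ℕ} {k : Type u} [Field k]

/-- The vanishing of `H^i(F(a))`. -/
abbrev Van (F : (CohB1.ProjSpace n k).Modules) (a : ℤ) (i : ℕ) : Prop :=
  Subsingleton (Coh.HH (CohB1.ProjSpace n k) (CohB1.tensorMod F (Twist.twistProjSpace n k a)) i)

/-- One step. -/
theorem step (S : ShortComplex (CohB1.ProjSpace n k).Modules) (h1 : Coh.IsCoh S.X₁) (h2 : Coh.IsCoh S.X₂)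
    (h3 : Coh.IsCoh S.X₃) (a : ℤ) (i : ℕ) (hi : 1 ≤ i) (hA : Van (Abelian.image S.f) a (i + 1))
    (hB : Van S.X₂ a i) (hs : topologicalKrullDim (CohB1.support S.homology) ≤ 1) :
    Van (Abelian.image S.g) a i := by
  have := Gaga.H883.Serre.isNoetherian_projSpace n k
  refine right (Gaga.H883.Serre.shortExact_tw n k a (sesKer_shortExact S.g)) i hB ?_
  have hcyc : Van S.cycles a (i + 1) := by
    refine mid (Gaga.H883.Serre.shortExact_tw n k a (sesHom_shortExact S)) (i + 1) hA ?_
    have hcy : Coh.IsCoh S.cycles := Sga67.CohBasic.isCoh_of_iso S.cyclesIsoKernel.symm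
      (Sga67.CohBasic.isCoh_kernel S.g h2 h3.1)
    have hc : Coh.IsCoh S.homology := by
      have e' : cokernel S.toCycles ≅ S.homology :=
        (colimit.isColimit _).coconePointUniqueUpToIso S.homologyIsCokernel
      exact Sga67.CohBasic.isCoh_of_iso e' (Sga67.CohBasic.isCoh_cokernel S.toCycles h1.1 hcy)
    exact subsingleton_of_support hc 1 hs a (i + 1) (by omega)
  exact subsingleton_congr (F := S.cycles) (G := kernel S.g) S.cyclesIsoKernel a (i + 1) hcyc

section Seq

variable (X : ℕ → (CohB1.ProjSpace n k).Modules) (d : ∀ s, X (s + 1) ⟶ X s) (hd : ∀ s, d (s + 1) ≫ d s = 0)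
  (hcoh : ∀ s, Coh.IsCoh (X s)) (m : ℤ) (hreg : ∀ s : ℕ, Curv2.IsMRegular k n (X s) (m + s))
  (hsupp : ∀ s, topologicalKrullDim (CohB1.support (ShortComplex.mk (d (s + 1)) (d s) (hd s)).homology) ≤ 1)

include hcoh hreg hsupp in
theorem van (N : ℕ) : ∀ (s i : ℕ), 1 ≤ i → n < i + N → Van (Abelian.image (d s)) (m + s + 1 - i) i := by
  have := Gaga.H883.Serre.isNoetherian_projSpace n k
  induction N with
  | zero =>
    intro s i hi hN
    exact Gaga.H883.Serre.vanish_gt n k (Gaga.H883.Serre.isQCoh_tw n k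
      (Sga67.CohBasic.isCoh_image _ (hcoh _) (hcoh _).1).1 _) i hN
  | succ N ih =>
    intro s i hi hN
    have h1 := ih (s + 1) (i + 1) (by omega) (by omega)
    have e : m + ((s + 1 : ℕ) : ℤ) + 1 - ((i + 1 : ℕ) : ℤ) = m + s + 1 - i := by push_cast; ring
    rw [e] at h1
    refine step (ShortComplex.mk (d (s + 1)) (d s) (hd s)) (hcoh _) (hcoh _) (hcoh _) _ i hi h1 ?_ (hsupp s)
    exact vanish (hcoh _).1 (hreg (s + 1)) i hi _ (by push_cast; ring)

include hcoh hreg hsupp in
/-- **The image of the augmentation is regular.** -/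
theorem isMRegular_image {E : (CohB1.ProjSpace n k).Modules} (hE : Coh.IsCoh E) (e : X 0 ⟶ E) (he : d 0 ≫ e = 0)
    (hs0 : topologicalKrullDim (CohB1.support (ShortComplex.mk (d 0) e he).homology) ≤ 1) :
    Curv2.IsMRegular k n (Abelian.image e) m := by
  intro i hi hin
  refine step (ShortComplex.mk (d 0) e he) (hcoh _) (hcoh _) hE _ i hi ?_ ?_ hs0
  · have h1 := van X d hd hcoh m hreg hsupp n 0 (i + 1) (by omega) (by omega)
    have e : m + ((0 : ℕ) : ℤ) + 1 - ((i + 1 : ℕ) : ℤ) = m - i := by push_cast; ring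
    rw [e] at h1
    exact h1
  · exact vanish (hcoh _).1 (hreg 0) i hi _ (by push_cast; ring)

end Seq

/-- Retracts of regular modules are regular. -/
theorem IsMRegular.retract {F G : (CohB1.ProjSpace n k).Modules} (i : F ⟶ G) (p : G ⟶ F) (h : i ≫ p = 𝟙 F) {m : ℤ}
    (hG : Curv2.IsMRegular k n G m) : Curv2.IsMRegular k n F m := by
  intro q h1 h2
  have hq := hG q h1 h2
  let Φ := tw n k (m - q) ⋙ CohqA.HBiprod.HFun (CohB1.ProjSpace n k) q
  have key : Φ.map i ≫ Φ.map p = 𝟙 (Φ.obj F) := by rw [← Φ.map_comp, h, Φ.map_id]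
  have key2 : ∀ x : Φ.obj F, x = 0 := by
    intro x
    have h3 : (Φ.map p).hom ((Φ.map i).hom x) = x := ConcreteCategory.congr_hom key x
    have h4 : (Φ.map i).hom x = 0 := @Subsingleton.elim _ hq _ _
    rw [← h3, h4, map_zero]
  exact ⟨fun x y => (key2 x).trans (key2 y).symm⟩

/-! ### Sums of twists -/

theorem isCoh_sumO' (κ : Type) [Fintype κ] (a : ℤ) :
    Coh.IsCoh (⨁ fun _ : κ => Twist.twistProjSpace n k a) := by
  have e : (⨁ fun _ : Fin (Fintype.card κ) => Twist.twistProjSpace n k a) ≅ ⨁ fun _ : κ => Twist.twistProjSpace n k a :=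
    biproduct.whiskerEquiv (f := fun _ : Fin (Fintype.card κ) => Twist.twistProjSpace n k a)
      (g := fun _ : κ => Twist.twistProjSpace n k a) (Fintype.equivFin κ).symm fun _ => Iso.refl _
  exact Sga67.CohBasic.isCoh_of_iso e (Gaga.H883.Serre.isCoh_sumO n k _ a)

theorem isMRegular_sumO (κ : Type) [Fintype κ] (a : ℤ) :
    Curv2.IsMRegular k n (⨁ fun _ : κ => Twist.twistProjSpace n k (-a)) a := by
  intro q h1 h2
  obtain ⟨e⟩ := Gaga.H883.Serre.O_mul n k (-a) (a - q)
  have e2 : (tw n k (a - q)).obj (⨁ fun _ : κ => Twist.twistProjSpace n k (-a)) ≅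
      ⨁ fun _ : κ => Twist.twistProjSpace n k (-a + (a - q)) :=
    (tw n k (a - q)).mapBiproduct _ ≪≫ biproduct.mapIso fun _ => e
  refine Gaga.H883.Serre.HH_congr e2.symm q (CohqA.HBiprod.subsingleton_HH_biproduct _ q fun _ => ?_)
  exact Groth.Agent.S0844.result k n _ q (by omega) (by omega)

end K360.ENReg
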