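import Mathlib.LinearAlgebra.Matrix.Determinant.Basic
import Mathlib.Data.Matrix.Block
import Mathlib.LinearAlgebra.Matrix.ToLin
import Mathlib.Tactic.NoncommRing
import Groth.Agent.QuotLF.K821.Minors

/-!
# Creation and annihilation matrices

* `Rep n β`: matrices `c j`, `h j` (`j : Fin n`) over `ℤ` indexed by `β` with the canonical anticommutation relations
  and a vacuum vector, i.e. contractions and wedge products on the exterior algebra of `ℤ^n`.
* `exists_rep`: existence.
* `cA`, `hA`: contraction with a covector and wedge product with a vector, over any commutative ring.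
* `eps`: the iterated contraction; `eps_cre`: Wick's formula, `eps φ (v₁ ∧ ⋯ ∧ v_m) = det (φ_i(v_j))`.
-/

set_option autoImplicit false

open Matrix

namespace K360.Fock

section Sq

variable {E : Type*} [Ring E] {ι : Type*}

theorem anticomm_sum (s : Finset ι) (x : ι → E) (y : E) (h : ∀ i ∈ s, x i * y + y * x i = 0) :
    (∑ i ∈ s, x i) * y + y * (∑ i ∈ s, x i) = 0 := by
  rw [Finset.sum_mul, Finset.mul_sum, ← Finset.sum_add_distrib]
  exact Finset.sum_eq_zero h

/-- A sum of pairwise anticommuting elements of square zero has square zero. -/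
theorem sq_sum_eq_zero (s : Finset ι) (x : ι → E) (h : ∀ i ∈ s, ∀ j ∈ s, x i * x j + x j * x i = 0)
    (h2 : ∀ i ∈ s, x i * x i = 0) : (∑ i ∈ s, x i) * (∑ i ∈ s, x i) = 0 := by
  classical
  induction s using Finset.induction_on with
  | empty => simp
  | insert a s ha ih =>
    rw [Finset.sum_insert ha]
    have h3 := ih (fun i hi j hj => h i (Finset.mem_insert_of_mem hi) j (Finset.mem_insert_of_mem hj))
      (fun i hi => h2 i (Finset.mem_insert_of_mem hi))
    have h4 := anticomm_sum s x (x a) (fun i hi => h i (Finset.mem_insert_of_mem hi) a (Finset.mem_insert_self _ _))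
    have h5 := h2 a (Finset.mem_insert_self _ _)
    calc (x a + ∑ i ∈ s, x i) * (x a + ∑ i ∈ s, x i)
        = x a * x a + ((∑ i ∈ s, x i) * x a + x a * (∑ i ∈ s, x i)) + (∑ i ∈ s, x i) * (∑ i ∈ s, x i) := by
          noncomm_ring
      _ = 0 := by rw [h5, h4, h3]; simp

end Sq

/-- Matrices with the canonical anticommutation relations. -/
structure Rep (n : ℕ) (β : Type) [Fintype β] [DecidableEq β] where
  c : Fin n → Matrix β β ℤ
  h : Fin n → Matrix β β ℤ
  Ω : β
  cc : ∀ i j, c i * c j + c j * c i = 0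
  c2 : ∀ i, c i * c i = 0
  ch : ∀ i j, c i * h j + h j * c i = if i = j then 1 else 0
  cΩ : ∀ i b, c i b Ω = 0
  Ωh : ∀ j b, h j Ω b = 0
  span : ∀ b, ∃ l : List (Fin n), (Pi.single b 1 : β → ℤ) = l.foldr (fun j v => h j *ᵥ v) (Pi.single Ω 1)

section Exists

theorem exists_rep (n : ℕ) : ∃ (β : Type) (_ : Fintype β) (_ : DecidableEq β), Nonempty (Rep n β) := by
  induction n with
  | zero =>
    exact ⟨Unit, inferInstance, inferInstance, ⟨{
      c := fun i => i.elim0, h := fun i => i.elim0, Ω := (), cc := fun i => i.elim0, c2 := fun i => i.elim0,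
      ch := fun i => i.elim0, cΩ := fun i => i.elim0, Ωh := fun i => i.elim0, span := fun b => ⟨[], rfl⟩ }⟩⟩
  | succ n ih =>
    obtain ⟨β, _, _, ⟨F⟩⟩ := ih
    let c' : Fin (n + 1) → Matrix (β ⊕ β) (β ⊕ β) ℤ := Fin.lastCases (Matrix.fromBlocks 0 1 0 0)
      (fun j => Matrix.fromBlocks (F.c j) 0 0 (-F.c j))
    let h' : Fin (n + 1) → Matrix (β ⊕ β) (β ⊕ β) ℤ := Fin.lastCases (Matrix.fromBlocks 0 0 1 0)
      (fun j => Matrix.fromBlocks (F.h j) 0 0 (-F.h j))
    have c1 : ∀ j : Fin n, c' j.castSucc = Matrix.fromBlocks (F.c j) 0 0 (-F.c j) := fun j => Fin.lastCases_castSucc ..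
    have c2 : c' (Fin.last n) = Matrix.fromBlocks 0 1 0 0 := Fin.lastCases_last
    have h1 : ∀ j : Fin n, h' j.castSucc = Matrix.fromBlocks (F.h j) 0 0 (-F.h j) := fun j => Fin.lastCases_castSucc ..
    have h2 : h' (Fin.last n) = Matrix.fromBlocks 0 0 1 0 := Fin.lastCases_last
    have fz : (Matrix.fromBlocks 0 0 0 0 : Matrix (β ⊕ β) (β ⊕ β) ℤ) = 0 := Matrix.fromBlocks_zero
    refine ⟨β ⊕ β, inferInstance, inferInstance, ⟨⟨c', h', Sum.inl F.Ω, ?_, ?_, ?_, ?_, ?_, ?_⟩⟩⟩
    · intro i j
      induction i using Fin.lastCases with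
      | last =>
        induction j using Fin.lastCases with
        | last => rw [c2]; simp [Matrix.fromBlocks_multiply, fz]
        | cast j => rw [c2, c1]; simp [Matrix.fromBlocks_multiply, Matrix.fromBlocks_add, fz]
      | cast i =>
        induction j using Fin.lastCases with
        | last => rw [c2, c1]; simp [Matrix.fromBlocks_multiply, Matrix.fromBlocks_add, fz]
        | cast j => rw [c1, c1]; simp [Matrix.fromBlocks_multiply, Matrix.fromBlocks_add, F.cc i j, fz]
    · intro i
      induction i using Fin.lastCases with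
      | last => rw [c2]; simp [Matrix.fromBlocks_multiply, fz]
      | cast i => rw [c1]; simp [Matrix.fromBlocks_multiply, F.c2 i, fz]
    · intro i j
      induction i using Fin.lastCases with
      | last =>
        induction j using Fin.lastCases with
        | last => rw [c2, h2]; simp [Matrix.fromBlocks_multiply, Matrix.fromBlocks_add, Matrix.fromBlocks_one]
        | cast j =>
          rw [c2, h1, if_neg (Fin.castSucc_lt_last j).ne']
          simp [Matrix.fromBlocks_multiply, Matrix.fromBlocks_add, fz]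
      | cast i =>
        induction j using Fin.lastCases with
        | last =>
          rw [c1, h2, if_neg (Fin.castSucc_lt_last i).ne]
          simp [Matrix.fromBlocks_multiply, Matrix.fromBlocks_add, fz]
        | cast j =>
          rw [c1, h1]
          have h3 : (i.castSucc = j.castSucc) = (i = j) := by simp
          simp only [Matrix.fromBlocks_multiply, Matrix.fromBlocks_add, mul_zero, zero_mul, add_zero, zero_add,
            neg_mul_neg, F.ch i j, h3]
          split_ifs with h4
          · exact Matrix.fromBlocks_one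
          · exact fz
    · intro i b
      induction i using Fin.lastCases with
      | last => rw [c2]; rcases b with b | b <;> simp
      | cast i => rw [c1]; rcases b with b | b <;> simp [F.cΩ]
    · intro i b
      induction i using Fin.lastCases with
      | last => rw [h2]; rcases b with b | b <;> simp
      | cast i => rw [h1]; rcases b with b | b <;> simp [F.Ωh]
    · have key : ∀ (l : List (Fin n)), (l.map Fin.castSucc).foldr (fun j v => h' j *ᵥ v)
          (Pi.single (Sum.inl F.Ω) 1) = Sum.elim (l.foldr (fun j v => F.h j *ᵥ v) (Pi.single F.Ω 1)) 0 := by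
        intro l
        induction l with
        | nil =>
          ext (b | b) <;> simp [Pi.single_apply]
        | cons j l ih =>
          rw [List.map_cons, List.foldr_cons, ih, h1, Matrix.fromBlocks_mulVec, List.foldr_cons]
          ext (b | b) <;> simp
      rintro (b | b)
      · obtain ⟨l, hl⟩ := F.span b
        refine ⟨l.map Fin.castSucc, ?_⟩
        rw [key, ← hl]
        ext (b' | b') <;> simp [Pi.single_apply]
      · obtain ⟨l, hl⟩ := F.span b
        refine ⟨Fin.last n :: l.map Fin.castSucc, ?_⟩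
        rw [List.foldr_cons, key, ← hl, h2, Matrix.fromBlocks_mulVec]
        ext (b' | b') <;> simp [Pi.single_apply]

end Exists

section Ops

variable {n : ℕ} {β : Type} [Fintype β] [DecidableEq β] (F : Rep n β) {A : Type*} [CommRing A]

/-- Contraction with a covector. -/
def cA (φ : Fin n → A) : Matrix β β A := ∑ j, φ j • (F.c j).map (Int.castRingHom A)

/-- Wedge product with a vector. -/
def hA (v : Fin n → A) : Matrix β β A := ∑ j, v j • (F.h j).map (Int.castRingHom A)

/-- The vacuum vector. -/
def vac : β → A := Pi.single F.Ω 1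

theorem sum_smul_mul (a b : Fin n → A) (X Y : Fin n → Matrix β β ℤ) :
    (∑ j, a j • (X j).map (Int.castRingHom A)) * (∑ j, b j • (Y j).map (Int.castRingHom A)) =
      ∑ i, ∑ j, (a i * b j) • (X i * Y j).map (Int.castRingHom A) := by
  rw [Finset.sum_mul_sum]
  refine Finset.sum_congr rfl fun i _ => Finset.sum_congr rfl fun j _ => ?_
  rw [smul_mul_smul_comm, Matrix.map_mul]

theorem cA_cA (φ ψ : Fin n → A) : cA F φ * cA F ψ + cA F ψ * cA F φ = 0 := by
  rw [cA, cA, sum_smul_mul, sum_smul_mul, Finset.sum_comm, ← Finset.sum_add_distrib]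
  refine Finset.sum_eq_zero fun j _ => ?_
  rw [← Finset.sum_add_distrib]
  refine Finset.sum_eq_zero fun i _ => ?_
  rw [mul_comm (ψ j), ← smul_add, ← Matrix.map_add _ (map_add _), F.cc, Matrix.map_zero _ (map_zero _), smul_zero]

theorem cA_sq (φ : Fin n → A) : cA F φ * cA F φ = 0 := by
  refine sq_sum_eq_zero Finset.univ _ (fun i _ j _ => ?_) (fun i _ => ?_)
  · rw [smul_mul_smul_comm, smul_mul_smul_comm, mul_comm (φ j), ← smul_add, ← Matrix.map_mul, ← Matrix.map_mul,
      ← Matrix.map_add _ (map_add _), F.cc, Matrix.map_zero _ (map_zero _), smul_zero]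
  · rw [smul_mul_smul_comm, ← Matrix.map_mul, F.c2, Matrix.map_zero _ (map_zero _), smul_zero]

theorem cA_hA (φ v : Fin n → A) : cA F φ * hA F v + hA F v * cA F φ = (φ ⬝ᵥ v) • (1 : Matrix β β A) := by
  rw [cA, hA, sum_smul_mul, sum_smul_mul, Finset.sum_comm, ← Finset.sum_add_distrib, dotProduct, Finset.sum_smul]
  refine Finset.sum_congr rfl fun j _ => ?_
  rw [← Finset.sum_add_distrib, Finset.sum_eq_single j]
  · rw [mul_comm (v j), ← smul_add, ← Matrix.map_add _ (map_add _), F.ch, if_pos rfl,
      Matrix.map_one _ (map_zero _) (map_one _)]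
  · intro i _ hij
    rw [mul_comm (v j), ← smul_add, ← Matrix.map_add _ (map_add _), F.ch, if_neg hij,
      Matrix.map_zero _ (map_zero _), smul_zero]
  · intro h
    exact absurd (Finset.mem_univ j) h

theorem cA_vac (φ : Fin n → A) : cA F φ *ᵥ vac F = 0 := by
  ext b
  rw [vac, Matrix.mulVec_single_one, Matrix.col_apply, cA, Matrix.sum_apply]
  refine Finset.sum_eq_zero fun j _ => ?_
  rw [Matrix.smul_apply, Matrix.map_apply, F.cΩ, map_zero, smul_zero]

theorem hA_apply_Ω (v : Fin n → A) (w : β → A) : (hA F v *ᵥ w) F.Ω = 0 := by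
  rw [Matrix.mulVec, dotProduct]
  refine Finset.sum_eq_zero fun b _ => ?_
  rw [hA, Matrix.sum_apply, Finset.sum_eq_zero, zero_mul]
  intro j _
  rw [Matrix.smul_apply, Matrix.map_apply, F.Ωh, map_zero, smul_zero]

/-- The iterated contraction with `φ 0`, then `φ 1`, etc. -/
def eps : ∀ {m : ℕ} (_ : Fin m → Fin n → A), Matrix β β A
  | 0, _ => 1
  | _ + 1, φ => eps (fun i => φ i.succ) * cA F (φ 0)

/-- The wedge product of vectors. -/
def cre : ∀ {m : ℕ} (_ : Fin m → Fin n → A), β → A
  | 0, _ => vac F
  | _ + 1, v => hA F (v 0) *ᵥ cre (fun i => v i.succ)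

theorem cA_cre {m : ℕ} (φ : Fin n → A) (v : Fin (m + 1) → Fin n → A) :
    cA F φ *ᵥ cre F v = ∑ j : Fin (m + 1), ((-1) ^ (j : ℕ) * (φ ⬝ᵥ v j)) • cre F (fun i => v (j.succAbove i)) := by
  have hc : ∀ {q : ℕ} (v : Fin (q + 1) → Fin n → A), cre F v = hA F (v 0) *ᵥ cre F (fun i => v i.succ) :=
    fun v => rfl
  have key : cA F φ *ᵥ cre F v = (φ ⬝ᵥ v 0) • cre F (fun i => v i.succ) -
      hA F (v 0) *ᵥ (cA F φ *ᵥ cre F (fun i => v i.succ)) := by
    rw [hc, Matrix.mulVec_mulVec, eq_sub_of_add_eq (cA_hA F φ (v 0)), Matrix.sub_mulVec,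
      ← Matrix.mulVec_mulVec, Matrix.smul_mulVec, Matrix.one_mulVec]
  rw [key]
  induction m with
  | zero =>
    have h1 : cre F (fun i : Fin 0 => v i.succ) = vac F := rfl
    have h2 : cre F (fun i : Fin 0 => v ((0 : Fin 1).succAbove i)) = vac F := rfl
    rw [Fin.sum_univ_one, h1, h2, cA_vac, Matrix.mulVec_zero, sub_zero]
    simp
  | succ m ih =>
    conv_rhs => rw [Fin.sum_univ_succ]
    have key' : cA F φ *ᵥ cre F (fun i => v i.succ) = (φ ⬝ᵥ v (Fin.succ 0)) • cre F (fun i => v i.succ.succ) -
        hA F (v (Fin.succ 0)) *ᵥ (cA F φ *ᵥ cre F (fun i => v i.succ.succ)) := by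
      rw [hc, Matrix.mulVec_mulVec, eq_sub_of_add_eq (cA_hA F φ (v (Fin.succ 0))), Matrix.sub_mulVec,
        ← Matrix.mulVec_mulVec, Matrix.smul_mulVec, Matrix.one_mulVec]
    have h3 := ih (fun i => v i.succ) key'
    rw [← key'] at h3
    rw [h3, sub_eq_add_neg]
    congr 1
    · simp
    · rw [Matrix.mulVec_sum, ← Finset.sum_neg_distrib]
      refine Finset.sum_congr rfl fun j _ => ?_
      rw [Matrix.mulVec_smul, ← neg_smul]
      have h1 : cre F (fun i => v (j.succ.succAbove i)) = hA F (v 0) *ᵥ cre F (fun i => v (j.succAbove i).succ) := by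
        rw [hc]
        simp only [Fin.succ_succAbove_zero, Fin.succ_succAbove_succ]
      rw [h1]
      congr 1
      rw [Fin.val_succ, pow_succ]
      ring

/-- **Wick's formula.** -/
theorem eps_cre {m : ℕ} (φ v : Fin m → Fin n → A) :
    eps F φ *ᵥ cre F v = (Matrix.of fun i j => φ i ⬝ᵥ v j).det • vac F := by
  induction m with
  | zero =>
    rw [eps, Matrix.one_mulVec, Matrix.det_isEmpty, one_smul]
    rfl
  | succ m ih =>
    rw [eps, ← Matrix.mulVec_mulVec, cA_cre, Matrix.mulVec_sum, Matrix.det_succ_row_zero, Finset.sum_smul]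
    refine Finset.sum_congr rfl fun j _ => ?_
    rw [Matrix.mulVec_smul, ih, smul_smul]
    rfl

theorem eps_cre_of_ne {m q : ℕ} (h : q ≠ m) (φ : Fin m → Fin n → A) (v : Fin q → Fin n → A) :
    (eps F φ *ᵥ cre F v) F.Ω = 0 := by
  induction m generalizing q with
  | zero =>
    rw [eps, Matrix.one_mulVec]
    cases q with
    | zero => exact absurd rfl h
    | succ q => exact hA_apply_Ω F _ _
  | succ m ih =>
    rw [eps, ← Matrix.mulVec_mulVec]
    cases q with
    | zero =>
      have h1 : cre F v = vac F := rfl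
      rw [h1, cA_vac, Matrix.mulVec_zero]
      rfl
    | succ q =>
      rw [cA_cre, Matrix.mulVec_sum, Finset.sum_apply]
      refine Finset.sum_eq_zero fun j _ => ?_
      rw [Matrix.mulVec_smul, Pi.smul_apply, ih (by omega), smul_zero]

theorem hA_single (j : Fin n) : hA F (Pi.single j (1 : A)) = (F.h j).map (Int.castRingHom A) := by
  rw [hA, Finset.sum_eq_single j]
  · rw [Pi.single_eq_same, one_smul]
  · intro i _ hij
    rw [Pi.single_eq_of_ne hij, zero_smul]
  · intro h
    exact absurd (Finset.mem_univ j) h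

theorem exists_cre (b : β) : ∃ (q : ℕ) (J : Fin q → Fin n),
    (Pi.single b (1 : A) : β → A) = cre F (fun i => Pi.single (J i) 1) := by
  obtain ⟨l, hl⟩ := F.span b
  have key : ∀ l : List (Fin n), ∃ (q : ℕ) (J : Fin q → Fin n),
      (Int.castRingHom A) ∘ (l.foldr (fun j v => F.h j *ᵥ v) (Pi.single F.Ω 1)) =
        cre F (fun i => Pi.single (J i) 1) := by
    intro l
    induction l with
    | nil =>
      refine ⟨0, fun i => i.elim0, ?_⟩
      ext b
      simp only [List.foldr_nil, Function.comp_apply, cre, vac, Pi.single_apply]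
      split_ifs <;> simp
    | cons j l ih =>
      obtain ⟨q, J, hJ⟩ := ih
      refine ⟨q + 1, Fin.cons j J, ?_⟩
      rw [List.foldr_cons, cre]
      simp only [Fin.cons_zero, Fin.cons_succ]
      rw [← hJ, hA_single]
      ext b
      rw [Function.comp_apply, RingHom.map_mulVec]
  obtain ⟨q, J, hJ⟩ := key l
  refine ⟨q, J, ?_⟩
  rw [← hJ, ← hl]
  ext b'
  simp only [Function.comp_apply, Pi.single_apply]
  split_ifs <;> simp

/-- The vacuum components of the iterated contraction are minors or zero. -/
theorem eps_Ω_mem {m : ℕ} (φ : Fin m → Fin n → A) (b : β) :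
    eps F φ F.Ω b ∈ K821.Minors.minorIdeal m (Matrix.of φ) := by
  obtain ⟨q, J, hJ⟩ := exists_cre (A := A) F b
  have h1 : eps F φ F.Ω b = (eps F φ *ᵥ (Pi.single b (1 : A) : β → A)) F.Ω := by
    rw [Matrix.mulVec_single_one, Matrix.col_apply]
  rw [h1, hJ]
  by_cases hq : q = m
  · subst hq
    rw [eps_cre, Pi.smul_apply, vac, Pi.single_eq_same, smul_eq_mul, mul_one]
    have h2 : (Matrix.of fun i j => φ i ⬝ᵥ (Pi.single (J j) (1 : A))) = (Matrix.of φ).submatrix id J := by
      ext i j
      rw [Matrix.of_apply, dotProduct_single_one, Matrix.submatrix_apply, Matrix.of_apply, id]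
    rw [h2]
    exact K821.Minors.minor_mem q (Matrix.of φ) id J
  · rw [eps_cre_of_ne F hq]
    exact Ideal.zero_mem _

/-- The minors times the vacuum are in the range of the iterated contraction. -/
theorem exists_eps_eq {m : ℕ} (φ : Fin m → Fin n → A) (x : A) (hx : x ∈ K821.Minors.minorIdeal m (Matrix.of φ)) :
    ∃ z : β → A, eps F φ *ᵥ z = x • vac F := by
  let N : Ideal A :=
    { carrier := {x | ∃ z : β → A, eps F φ *ᵥ z = x • vac F}
      add_mem' := by
        rintro x y ⟨z, hz⟩ ⟨w, hw⟩
        exact ⟨z + w, by rw [Matrix.mulVec_add, hz, hw, add_smul]⟩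
      zero_mem' := ⟨0, by rw [Matrix.mulVec_zero, zero_smul]⟩
      smul_mem' := by
        rintro a x ⟨z, hz⟩
        exact ⟨a • z, by rw [Matrix.mulVec_smul, hz, smul_eq_mul, mul_smul]⟩ }
  have hN : K821.Minors.minorIdeal m (Matrix.of φ) ≤ N := by
    rw [K821.Minors.minorIdeal_le_iff]
    intro e J
    by_cases he : Function.Injective e
    · let σ : Equiv.Perm (Fin m) := Equiv.ofBijective e (Finite.injective_iff_bijective.1 he)
      have h1 : (Matrix.of φ).submatrix e J = ((Matrix.of φ).submatrix id J).submatrix σ id := rfl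
      refine ⟨((Equiv.Perm.sign σ : ℤ) : A) • cre F (fun i => Pi.single (J i) 1), ?_⟩
      have h2 : (Matrix.of fun i j => φ i ⬝ᵥ (Pi.single (J j) (1 : A))) = (Matrix.of φ).submatrix id J := by
        ext i j
        rw [Matrix.of_apply, dotProduct_single_one, Matrix.submatrix_apply, Matrix.of_apply, id]
      rw [Matrix.mulVec_smul, eps_cre, h2, smul_smul, h1, Matrix.det_permute]
    · refine ⟨0, ?_⟩
      rw [Function.Injective] at he
      push Not at he
      obtain ⟨i, j, hij, hne⟩ := he
      rw [Matrix.det_zero_of_row_eq hne (by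
        ext b
        rw [Matrix.submatrix_apply, Matrix.submatrix_apply, hij]), zero_smul, Matrix.mulVec_zero]
  exact hN hx

end Ops

end K360.Fock
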